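/-
The focal condition in a pushing-up situation with natural sections.
-/
import Cfsg.Agent.Lib.PushingUpRankOne.Main
import Mathlib.GroupTheory.Transfer

set_option autoImplicit false
set_option linter.unusedSectionVars false
set_option linter.style.haveILetI false

open Matrix CfsgLib.Perm.SL2Unipotent
open scoped MatrixGroups commutatorElement

namespace CfsgLib.PushingUpSingle

open CfsgLib.PushingUpRankOne CfsgLib.LocalEvenB.PushingUp CfsgLib.LocalEvenB

variable {G : Type*} [Group G] [Finite G] {p : ℕ} [Fact p.Prime] {F : Type*} [Field F] [Fintype F]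

local notation "ℭ" X:max => Subgroup.centralizer (SetLike.coe X)

/-- What the transfer argument asks: the focal part of `S` lies in the derived group of `M`. -/
def Good (S M : Subgroup G) : Prop := S ⊓ commutator G ≤ ⁅M, M⁆

/-- A central element of a Sylow subgroup inside the derived group lies in the derived group of the Sylow subgroup. -/
theorem central_mem (P : Sylow p G) {z : G} (hz : z ∈ (P : Subgroup G)) (hzc : z ∈ Subgroup.center G)
    (hzG : z ∈ commutator G) : z ∈ ⁅(P : Subgroup G), (P : Subgroup G)⁆ := by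
  let f : (P : Subgroup G) →* Abelianization (P : Subgroup G) := Abelianization.of
  have key : ∀ (k : ℕ) (g₀ : G), g₀⁻¹ * z ^ k * g₀ ∈ (P : Subgroup G) → g₀⁻¹ * z ^ k * g₀ = z ^ k := fun k g₀ _ => by
    rw [mul_assoc, ← Subgroup.mem_center_iff.1 (pow_mem hzc k) g₀, ← mul_assoc, inv_mul_cancel, one_mul]
  have h1 := MonoidHom.transfer_eq_pow f z key
  have h2 : MonoidHom.transfer f z = 1 := MonoidHom.mem_ker.1 (Abelianization.commutator_subset_ker _ hzG)
  rw [h2] at h1
  have h3 : (⟨z, hz⟩ : (P : Subgroup G)) ^ (P : Subgroup G).index ∈ commutator ↥(P : Subgroup G) := by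
    rw [← Abelianization.ker_of, MonoidHom.mem_ker]
    exact h1.symm
  have h4 : (⟨z, hz⟩ : (P : Subgroup G)) ∈ commutator ↥(P : Subgroup G) := by
    obtain ⟨a, ha⟩ := P.isPGroup' ⟨z, hz⟩
    have hcop : (orderOf (⟨z, hz⟩ : (P : Subgroup G))).Coprime (P : Subgroup G).index :=
      Nat.Coprime.coprime_dvd_left (orderOf_dvd_of_pow_eq_one ha)
        (Nat.Coprime.pow_left a ((Fact.out : p.Prime).coprime_iff_not_dvd.2 P.not_dvd_index))
    obtain ⟨m, hm⟩ := exists_pow_eq_self_of_coprime hcop.symm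
    rw [← hm]
    exact pow_mem h3 m
  have h5 : z ∈ (commutator ↥(P : Subgroup G)).map (P : Subgroup G).subtype := ⟨_, h4, rfl⟩
  rwa [Subgroup.map_subtype_commutator] at h5

/-- A natural section is covered by commutators with an element acting as `-1`. -/
theorem section_cover {S N L N' Y : Subgroup G} [N.Normal] {φ : G →* PSL2 F} {ρ : G →* SL(2, F)}
    {ψ : G → Fin 2 → F} (D : NaturalMap S φ ρ N L N' ψ) (h2 : (2 : F) ≠ 0) {z : G} (hz : (ρ z).1 = -1)
    (hY : ∀ x ∈ N, x * z * x⁻¹ * z⁻¹ ∈ Y) : ∀ v ∈ N, ∃ y ∈ Y, ∃ c ∈ N', v = y * c := by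
  intro v hv
  obtain ⟨m, hm, hmv⟩ := D.surj ((2 : F)⁻¹ • ψ v)
  have hzm : z * m⁻¹ * z⁻¹ ∈ N := (inferInstance : N.Normal).conj_mem _ (inv_mem hm) z
  have hinv : ψ m⁻¹ = -ψ m := by
    have h := D.map_mul m hm m⁻¹ (inv_mem hm)
    rw [mul_inv_cancel, (D.ker 1 (one_mem _)).2 (one_mem _)] at h
    exact (neg_eq_of_add_eq_zero_right h.symm).symm
  have hy : m * z * m⁻¹ * z⁻¹ ∈ N := by
    rw [show m * z * m⁻¹ * z⁻¹ = m * (z * m⁻¹ * z⁻¹) by group]
    exact mul_mem hm hzm
  have hψy : ψ (m * z * m⁻¹ * z⁻¹) = ψ v := by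
    rw [show m * z * m⁻¹ * z⁻¹ = m * (z * m⁻¹ * z⁻¹) by group, D.map_mul m hm _ hzm, D.act z _ (inv_mem hm),
      hz, hinv, neg_mulVec, one_mulVec, neg_neg, hmv, ← two_smul F, smul_smul, mul_inv_cancel₀ h2, one_smul]
  refine ⟨_, hY m hm, (m * z * m⁻¹ * z⁻¹)⁻¹ * v, ?_, by group⟩
  refine (D.ker _ (mul_mem (inv_mem hy) hv)).1 ?_
  have h := D.map_mul _ hy _ (mul_mem (inv_mem hy) hv)
  rw [mul_inv_cancel_left, hψy] at h
  exact left_eq_add.1 h

/-- In `SL₂(3)` the upper unitriangular group meets the derived group trivially. -/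
theorem up_not_derived (h3 : Fintype.card F = 3) {a : F} (h : up a ∈ commutator SL(2, F)) : a = 0 := by
  haveI : Fact (Nat.Prime 3) := ⟨by norm_num⟩
  haveI : CharP F 3 := charP_of_card_eq_prime_pow (p := 3) (f := 1) (by rw [h3]; norm_num)
  let U := CfsgLib.Classical.unipSLSylow (F := F) 3
  have hU : ∀ g : SL(2, F), g ∈ (U : Subgroup _) ↔ ∃ c, g = up c := fun g => by
    constructor
    · rintro ⟨c, rfl⟩
      exact ⟨c.toAdd, Subtype.ext (CfsgLib.Classical.uSL_coe c.toAdd)⟩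
    · rintro ⟨c, rfl⟩
      exact ⟨Multiplicative.ofAdd c, Subtype.ext (CfsgLib.Classical.uSL_coe c)⟩
  have hsq : ∀ t : F, t ≠ 0 → t * t = 1 := fun t ht => by
    have := FiniteField.pow_card_sub_one_eq_one t ht
    rw [h3] at this
    simpa [pow_two] using this
  have hnc : Subgroup.normalizer (((U : Subgroup SL(2, F)) : Subgroup SL(2, F)) : Set SL(2, F)) ≤ ℭ (U : Subgroup SL(2, F)) := by
    intro g hg
    obtain ⟨b, hb⟩ := (hU _).1 ((Subgroup.mem_normalizer_iff.1 hg (up 1)).1 ((hU _).2 ⟨1, rfl⟩))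
    have e : g * up 1 = up b * g := by rw [← hb, inv_mul_cancel_right]
    have e00 := congrArg (fun M : SL(2, F) => M.1 0 0) e
    have e01 := congrArg (fun M : SL(2, F) => M.1 0 1) e
    simp [Matrix.SpecialLinearGroup.coe_mul, Matrix.mul_apply, Fin.sum_univ_two, up_val] at e00 e01
    have hdet := g.2
    rw [Matrix.det_fin_two] at hdet
    have hb0 : b ≠ 0 := fun h0 => by
      rw [h0, up_zero, mul_inv_eq_one] at hb
      have h1 : up (1 : F) = 1 := mul_left_cancel (hb.trans (mul_one g).symm)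
      simpa [up_val] using congrArg (fun M : SL(2, F) => M.1 0 1) h1
    have hc : g.1 1 0 = 0 := e00.resolve_left hb0
    rw [hc, mul_zero, sub_zero] at hdet
    have ha0 : g.1 0 0 ≠ 0 := fun h0 => by simp [h0] at hdet
    have had : g.1 1 1 = g.1 0 0 := by linear_combination g.1 0 0 * hdet - g.1 1 1 * hsq _ ha0
    have hg' : ∀ c, g * up c = up c * g := fun c => by
      apply sl_ext <;> simp [Matrix.SpecialLinearGroup.coe_mul, Matrix.mul_apply, Fin.sum_univ_two, up_val, hc, had]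
      ring
    intro u hu
    obtain ⟨c, rfl⟩ := (hU u).1 hu
    exact (hg' c).symm
  have h1 : up a ∈ (MonoidHom.transferSylow U hnc).ker := by
    letI : CommGroup (U : Subgroup SL(2, F)) :=
      { (inferInstance : Group (U : Subgroup SL(2, F))) with
        mul_comm := fun x y => Subtype.ext (hnc (Subgroup.le_normalizer y.2) x x.2) }
    exact Abelianization.commutator_subset_ker _ h
  have h2 := Subgroup.disjoint_def.1
    (MonoidHom.ker_transferSylow_disjoint U hnc (U : Subgroup _) U.isPGroup') h1 ((hU _).2 ⟨a, rfl⟩)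
  have := congrArg (fun M : SL(2, F) => M.1 0 1) h2
  simpa [up_val] using this

variable {S Q M : Subgroup G} {n : ℕ} {φ : G →* PSL2 F}

/-- The fixer of a normal section and a Sylow subgroup generate everything. -/
theorem sup_fixer_eq_top (X : Pre p S Q M n φ) {R' R : Subgroup G} [R'.Normal] (hR : R.Normal)
    (h : Fixes p R' R) : S ⊔ fixer R' R = ⊤ := by
  apply Solvable.Cores.eq_top_of_sylow_le
  intro q hq
  by_cases hqp : q = p
  · subst hqp
    obtain ⟨P, hP⟩ := X.hyp.setup.sylow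
    exact ⟨P, hP.le.trans le_sup_left⟩
  · haveI := Fact.mk hq
    obtain ⟨P⟩ : Nonempty (Sylow q G) := inferInstance
    refine ⟨P, fun x hxP => Subgroup.mem_sup_right ⟨by rw [Subgroup.normalizer_eq_top_iff.2 hR]; trivial, ?_⟩⟩
    obtain ⟨a, ha⟩ := P.isPGroup' ⟨x, hxP⟩
    exact h x (Nat.Coprime.coprime_dvd_left (orderOf_dvd_of_pow_eq_one (by simpa using congrArg Subtype.val ha))
      (Nat.Coprime.pow_left a ((Nat.coprime_primes hq Fact.out).2 hqp)))

/-- The general step: natural quotient and all layers fixed or inverted by a central involution of the quotient. -/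
theorem good_of_layers (X : Pre p S Q M n φ) (hp : p ≠ 2) {ρ : G →* SL(2, F)} (hsurj : Function.Surjective ρ)
    (hup : ∀ s ∈ S, ∃ x, ρ s = up x) (hker : ∀ g, ρ g = 1 ↔ g ∈ Q)
    (hlay : ∀ z : G, (ρ z).1 = -1 → ∀ Y : Subgroup G, Y.Normal → Y ≤ Q →
      (∀ x ∈ Q, x * z * x⁻¹ * z⁻¹ ∈ Y) → Fixes p Y Q) : Good S M := by
  haveI := X.hyp.setup.normal
  haveI := X.hyp.charP
  have h2 : (2 : F) ≠ 0 := by
    intro h
    have : ((2 : ℕ) : F) = 0 := by simpa using h
    rw [CharP.cast_eq_zero_iff F p] at this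
    exact hp ((Nat.prime_dvd_prime_iff_eq Fact.out Nat.prime_two).1 this)
  have hQS := X.hyp.setup.le
  have hSM := X.hyp.setup.sleM
  have hQM : Q ≤ M := hQS.trans hSM
  -- the preimage of the upper unitriangular group is `S`
  have hpre : ∀ g : G, (∃ x, ρ g = up x) → g ∈ S := by
    rintro g ⟨x, hx⟩
    obtain ⟨y, hy⟩ := hsurj (up x)
    obtain ⟨s, hs, hsx⟩ : ∃ s ∈ S, ρ s = up x := by
      obtain ⟨P, hP⟩ := X.hyp.setup.sylow
      by_contra! hne
      let U := CfsgLib.Classical.unipSLSylow (F := F) p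
      have hle : S.map ρ ≤ (U : Subgroup SL(2, F)) := by
        rintro _ ⟨s, hs, rfl⟩
        obtain ⟨c, hc⟩ := hup s hs
        exact hc ▸ ⟨Multiplicative.ofAdd c, Subtype.ext (CfsgLib.Classical.uSL_coe c)⟩
      subst hP
      have he : (U : Subgroup SL(2, F)) = (P : Subgroup G).map ρ :=
        (P.mapSurjective hsurj).3 U.isPGroup' hle
      obtain ⟨s, hs, hsx⟩ : up x ∈ (P : Subgroup G).map ρ :=
        he ▸ ⟨Multiplicative.ofAdd x, Subtype.ext (CfsgLib.Classical.uSL_coe x)⟩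
      exact hne s hs hsx
    have : s⁻¹ * g ∈ Q := (hker _).1 (by rw [map_mul, map_inv, hx, hsx, inv_mul_cancel])
    have := mul_mem hs (hQS this)
    rwa [mul_inv_cancel_left] at this
  have hnorm : ∀ h : G, (∀ c, ∃ d, ρ h * up c * (ρ h)⁻¹ = up d) → h ∈ M := by
    intro h hh
    have hN : h ∈ Subgroup.normalizer (S : Set G) := by
      have hle : S.map (MulAut.conj h).toMonoidHom ≤ S := by
        rintro _ ⟨s, hs, rfl⟩
        obtain ⟨c, hc⟩ := hup s hs
        obtain ⟨d, hd⟩ := hh c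
        exact hpre _ ⟨d, by show ρ (h * s * h⁻¹) = up d; rw [map_mul, map_mul, map_inv, hc, hd]⟩
      have he := Subgroup.eq_of_le_of_card_ge hle (Subgroup.card_map_of_injective (MulAut.conj h).injective).ge
      rw [Subgroup.mem_normalizer_iff]
      intro s
      constructor
      · exact fun hs => hle ⟨s, hs, rfl⟩
      · intro hs
        obtain ⟨t, ht, e⟩ := he.ge hs
        rwa [← (MulAut.conj h).injective (e : (MulAut.conj h) t = (MulAut.conj h) s)]
    refine (by_contra fun hle => ?_ : Subgroup.normalizer (S : Set G) ≤ M) hN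
    have htop := X.hyp.setup.top_of _ Subgroup.le_normalizer hle
    obtain ⟨s, hs, hsQ⟩ := X.hyp.exists_notQ
    exact hsQ (X.hyp.setup.maximal S (Subgroup.normalizer_eq_top_iff.1 htop) X.hyp.setup.isPGroup hs)
  obtain ⟨z, hz⟩ := hsurj (-1)
  have hz1 : (ρ z).1 = -1 := by rw [hz]; rfl
  have hzc : ∀ g, ρ (g * z * g⁻¹) = ρ z := fun g => by
    rw [map_mul, map_mul, map_inv, hz, mul_neg, mul_one, neg_mul, mul_inv_cancel]
  have hzM : z ∈ M := hnorm z fun c => ⟨c, by
    rw [hz, neg_one_mul, neg_mul, neg_eq_iff_eq_neg, mul_inv_eq_iff_eq_mul, neg_mul_neg, mul_one]⟩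
  set T := S ⊓ ⁅M, M⁆ with hT
  -- commutators with `z`
  set Y := Subgroup.normalClosure {x : G | ∃ q ∈ Q, x = q * z * q⁻¹ * z⁻¹} with hY
  have hTmem : ∀ {a b : G}, a ∈ M → b ∈ M → a * b * a⁻¹ * b⁻¹ ∈ ⁅M, M⁆ := fun ha hb =>
    Subgroup.commutator_mem_commutator ha hb
  have hYT : Y ≤ Q ⊓ T := by
    refine (Subgroup.closure_le _).2 fun x hx => ?_
    obtain ⟨_, ⟨q, hq, rfl⟩, hc⟩ := Group.mem_conjugatesOfSet_iff.1 hx
    obtain ⟨g, rfl⟩ := isConj_iff.1 hc
    obtain ⟨q', hq', r, hr, e⟩ : ∃ q' ∈ Q, ∃ r ∈ Q,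
        g * (q * z * q⁻¹ * z⁻¹) * g⁻¹ = q' * (z * r) * q'⁻¹ * (z * r)⁻¹ :=
      ⟨g * q * g⁻¹, X.hyp.setup.normal.conj_mem q hq g, z⁻¹ * (g * z * g⁻¹),
        (hker _).1 (by rw [map_mul, map_inv, hzc, inv_mul_cancel]), by group⟩
    have hQmem : g * (q * z * q⁻¹ * z⁻¹) * g⁻¹ ∈ Q := by
      refine X.hyp.setup.normal.conj_mem _ ?_ g
      rw [show q * z * q⁻¹ * z⁻¹ = q * (z * q⁻¹ * z⁻¹) by group]
      exact mul_mem hq (X.hyp.setup.normal.conj_mem _ (inv_mem hq) z)
    refine ⟨hQmem, hQS hQmem, ?_⟩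
    rw [e]
    exact hTmem (hQM hq') (mul_mem hzM (hQM hr))
  haveI hYn : Y.Normal := Subgroup.normalClosure_normal
  have hfix : Fixes p Y Q := hlay z hz1 Y hYn (hYT.trans inf_le_left)
    fun x hx => Subgroup.subset_normalClosure ⟨x, hx, rfl⟩
  -- the fixed top
  set D := Y ⊔ ⁅Q, S⁆ with hD
  have hQSQ : ⁅Q, S⁆ ≤ Q := Subgroup.commutator_le_left _ _
  have hDT : D ≤ T := sup_le (hYT.trans inf_le_right)
    (le_inf (hQSQ.trans hQS) (Subgroup.commutator_mono hQM hSM))
  have hDQ : D ≤ Q := sup_le (hYT.trans inf_le_left) hQSQ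
  haveI := fixer_normal Y Q X.hyp.setup.normal
  have htop := sup_fixer_eq_top X X.hyp.setup.normal hfix
  have hcentral : ∀ g : G, ∀ q ∈ Q, g * q * g⁻¹ * q⁻¹ ∈ D := by
    intro g q hq
    obtain ⟨s, hs, f, hf, rfl⟩ := Subgroup.mem_sup_of_normal_right.1 (htop ▸ Subgroup.mem_top g)
    have h1 : f * q * f⁻¹ * q⁻¹ ∈ D := Subgroup.mem_sup_left (hf.2 q hq)
    have h2 : ∀ r ∈ Q, s * r * s⁻¹ * r⁻¹ ∈ D := fun r hr => by
      have := inv_mem (Subgroup.mem_sup_right (S := Y) (Subgroup.commutator_mem_commutator hr hs))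
      simpa [commutatorElement_def, mul_assoc] using this
    have h3 : s * (f * q * f⁻¹ * q⁻¹) * s⁻¹ ∈ D := by
      have := mul_mem (h2 _ (hDQ h1)) h1
      rwa [inv_mul_cancel_right] at this
    rw [show s * f * q * (s * f)⁻¹ * q⁻¹ = s * (f * q * f⁻¹ * q⁻¹) * s⁻¹ * (s * q * s⁻¹ * q⁻¹) by group]
    exact mul_mem h3 (h2 q hq)
  haveI hDn : D.Normal := ⟨fun d hd g => by
    have := mul_mem (hcentral g d (hDQ hd)) hd
    rwa [inv_mul_cancel_right] at this⟩
  -- the focal part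
  intro x hx
  obtain ⟨hxS, hxG⟩ := Subgroup.mem_inf.1 hx
  obtain ⟨t, ht, q, hq, rfl⟩ : ∃ t ∈ S ⊓ ⁅M, M⁆ ⊓ commutator G, ∃ q ∈ Q, x = t * q := by
    obtain ⟨a, ha⟩ := hup x hxS
    by_cases hq3 : Fintype.card F ≤ 3
    · refine ⟨1, one_mem _, x, ?_, (one_mul x).symm⟩
      have hF3 : Fintype.card F = 3 := by
        have := Fintype.one_lt_card (α := F)
        rcases Nat.lt_or_ge (Fintype.card F) 3 with h | h
        · exfalso
          have h22 : Fintype.card F = 2 := by omega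
          have hd : p ∣ 2 := h22 ▸ X.hyp.card ▸ dvd_pow_self p (by have := X.hyp.one_le; omega)
          exact hp ((Nat.prime_dvd_prime_iff_eq Fact.out Nat.prime_two).1 hd)
        · omega
      have hca : up a ∈ commutator SL(2, F) := by
        rw [← ha]
        exact (map_commutator_eq ρ (G := G)).le.trans (Subgroup.commutator_mono le_top le_top) ⟨x, hxG, rfl⟩
      exact (hker x).1 (by rw [ha, up_not_derived hF3 hca, up_zero])
    · obtain ⟨l, hl0, hl⟩ : ∃ l : F, l ≠ 0 ∧ l * l ≠ 1 := by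
        classical
        by_contra! hh
        apply hq3
        have hsub : (Finset.univ : Finset F) ⊆ {0, 1, -1} := fun t _ => by
          by_cases ht : t = 0
          · simp [ht]
          · rcases mul_self_eq_one_iff.1 (hh t ht) with h | h <;> simp [h]
        exact (Finset.card_le_card hsub).trans Finset.card_le_three
      let d : SL(2, F) := ⟨!![l, 0; 0, l⁻¹], by simp [Matrix.det_fin_two, hl0]⟩
      have hd : ∀ c, d * up c = up (l * l * c) * d := fun c => by
        apply Subtype.ext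
        rw [Matrix.SpecialLinearGroup.coe_mul, Matrix.SpecialLinearGroup.coe_mul]
        ext i j
        fin_cases i <;> fin_cases j <;> simp [d, up, Matrix.mul_apply, Fin.sum_univ_two]
        field_simp
      obtain ⟨h, hh⟩ := hsurj d
      have hhM : h ∈ M := hnorm h fun c => ⟨l * l * c, by rw [hh, hd, mul_inv_cancel_right]⟩
      obtain ⟨s₀, hs₀⟩ := hsurj (up (a / (l * l - 1)))
      have hs₀S := hpre s₀ ⟨_, hs₀⟩
      have hl1 : l * l - 1 ≠ 0 := sub_ne_zero.2 hl
      have hρ : ρ (h * s₀ * h⁻¹ * s₀⁻¹) = up a := by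
        rw [map_mul, map_mul, map_mul, map_inv, map_inv, hh, hs₀, hd, mul_inv_cancel_right, up_inv, up_mul]
        congr 1
        rw [show l * l * (a / (l * l - 1)) + -(a / (l * l - 1)) = (l * l - 1) * (a / (l * l - 1)) by ring,
          mul_div_cancel₀ a hl1]
      refine ⟨_, ⟨⟨hpre _ ⟨_, hρ⟩, hTmem hhM (hSM hs₀S)⟩,
        Subgroup.commutator_mem_commutator (Subgroup.mem_top h) (Subgroup.mem_top s₀)⟩, _,
        (hker _).1 (?_ : ρ ((h * s₀ * h⁻¹ * s₀⁻¹)⁻¹ * x) = 1), by group⟩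
      rw [map_mul, map_inv, hρ, ha, inv_mul_cancel]
  refine mul_mem (Subgroup.mem_inf.1 (Subgroup.mem_inf.1 ht).1).2 ?_
  have hqG : q ∈ commutator G := by
    have := mul_mem (inv_mem (Subgroup.mem_inf.1 ht).2) hxG
    rwa [inv_mul_cancel_left] at this
  obtain ⟨P, hP⟩ := X.hyp.setup.sylow
  have hm := central_mem (P.mapSurjective (QuotientGroup.mk'_surjective D)) (z := QuotientGroup.mk' D q)
    ⟨q, hP.symm ▸ hQS hq, rfl⟩ (Subgroup.mem_center_iff.2 fun y => by
      obtain ⟨g, rfl⟩ := QuotientGroup.mk'_surjective D y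
      have h1 : QuotientGroup.mk' D (g * q * g⁻¹ * q⁻¹) = 1 := (QuotientGroup.eq_one_iff _).2 (hcentral g q hq)
      rw [map_mul, map_mul, map_mul, map_inv, map_inv, mul_inv_eq_one, mul_inv_eq_iff_eq_mul] at h1
      exact h1)
    (Subgroup.commutator_mono le_top le_top
      ((Subgroup.map_commutator (⊤ : Subgroup G) ⊤ (QuotientGroup.mk' D)).le ⟨q, hqG, rfl⟩))
  change QuotientGroup.mk' D q ∈ ⁅(P : Subgroup G).map _, (P : Subgroup G).map _⁆ at hm
  rw [← Subgroup.map_commutator, hP] at hm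
  obtain ⟨c, hc, hcq⟩ := hm
  have hcd : c⁻¹ * q ∈ D := QuotientGroup.eq.1 hcq
  have := mul_mem (Subgroup.commutator_mono hSM hSM hc) ((hDT hcd).2)
  rwa [mul_inv_cancel_left] at this

theorem Fixes.of_cover {R' R Y : Subgroup G} (hY : Y.Normal) {R₀ : Subgroup G} (hR₀ : R₀.Normal)
    (hc : ∀ v ∈ R, ∃ y ∈ Y, ∃ c ∈ R', v = y * c) (hle : Y ≤ R₀) (h : Fixes p R₀ R') : Fixes p R₀ R := by
  intro x hx v hv
  obtain ⟨y, hy, c, hc', rfl⟩ := hc v hv
  rw [show x * (y * c) * x⁻¹ * (y * c)⁻¹ = (x * y * x⁻¹) * (x * c * x⁻¹ * c⁻¹) * y⁻¹ by group]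
  exact mul_mem (mul_mem (hle (hY.conj_mem y hy x)) (h x hx c hc')) (hle (inv_mem hy))

theorem good_one (X : Pre p S Q M n φ) (hp : p ≠ 2) {U : Subgroup G} (D : OneData p S Q U) : Good S M := by
  obtain ⟨ρ, ψ, N⟩ := X.lineSection.natural X.hyp
  haveI := X.hyp.charP
  have hC : ∀ (Y : Subgroup G), Fixes p Y (baseC p S) := fun Y x _ c hc => by
    rw [Subgroup.mem_center_iff.1 hc.2 x, mul_inv_cancel_right, mul_inv_cancel]
    exact one_mem _
  have hker : ∀ g, ρ g = 1 ↔ g ∈ Q := fun g => X.rho_ker N.compat N.upper (fun x hx hρ r hr => by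
    have a1 : x * r * x⁻¹ * r⁻¹ ∈ baseV p S := OneData.fixesQ X D x hx r hr
    have a2 : x * r * x⁻¹ * r⁻¹ ∈ baseC p S := X.coprime_step inferInstance hx hr ((N.ker_iff inferInstance x).1 hρ _ a1)
    have a3 := X.coprime_step (R := ⊥) inferInstance hx hr (hC ⊥ x hx _ a2)
    rw [Subgroup.mem_bot, mul_inv_eq_one, mul_inv_eq_iff_eq_mul] at a3
    exact a3) g
  refine good_of_layers X hp N.surj_rho N.upper hker fun z hz Y hY hYQ hYz => ?_
  have h2 : (2 : F) ≠ 0 := by
    intro h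
    have : ((2 : ℕ) : F) = 0 := by simpa using h
    rw [CharP.cast_eq_zero_iff F p] at this
    exact hp ((Nat.prime_dvd_prime_iff_eq Fact.out Nat.prime_two).1 this)
  exact X.fixes_trans hY le_rfl (OneData.fixesQ X D)
    (Fixes.of_cover hY hY (section_cover N h2 hz fun x hx => hYz x (X.baseV_le_Q hx)) le_rfl (hC Y))

theorem good_two (X : Pre p S Q M n φ) (hp : p ≠ 2) {U V : Subgroup G} {a : G}
    (T : TwoData p n S Q U V a) : Good S M := by
  obtain ⟨ρ, ψ, ψ', N, N', hker⟩ := TwoData.natural X T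
  haveI := X.hyp.charP
  have h2 : (2 : F) ≠ 0 := by
    intro h
    have : ((2 : ℕ) : F) = 0 := by simpa using h
    rw [CharP.cast_eq_zero_iff F p] at this
    exact hp ((Nat.prime_dvd_prime_iff_eq Fact.out Nat.prime_two).1 this)
  refine good_of_layers X hp N.surj_rho N.upper hker fun z hz Y hY hYQ hYz => ?_
  have hWQ := TwoData.W_le X T
  have hC : Fixes p Y (baseC p S) := fun x _ c hc => by
    rw [Subgroup.mem_center_iff.1 hc.2 x, mul_inv_cancel_right, mul_inv_cancel]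
    exact one_mem _
  have hV : Fixes p Y (baseV p S) :=
    Fixes.of_cover hY hY (section_cover N h2 hz fun x hx => hYz x (X.baseV_le_Q hx)) le_rfl hC
  have hE : Fixes p Y (modE p S U) :=
    X.fixes_trans hY (le_trans (fun e he => he.1) hWQ) (TwoData.fixes_VE X T) hV
  have hW : Fixes p Y (modW U) :=
    Fixes.of_cover hY hY (section_cover N' h2 hz fun x hx => hYz x (hWQ hx)) le_rfl hE
  exact X.fixes_trans hY le_rfl (TwoData.fixes_WQ X T) hW

end CfsgLib.PushingUpSingle
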