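/-
The two descents: to the normal closure of the centraliser of `Z(J)`, and modulo a central subgroup.
-/
import Cfsg.Agent.Lib.PushingUpSingle.Good
import Cfsg.Agent.Lib.PushingUpFamily.Main

set_option autoImplicit false
set_option linter.unusedSectionVars false
set_option linter.style.haveILetI false

open Matrix CfsgLib.Perm.SL2Unipotent
open scoped MatrixGroups commutatorElement

namespace CfsgLib.PushingUpSingle

open CfsgLib.PushingUpRankOne CfsgLib.LocalEvenB.PushingUp CfsgLib.LocalEvenB CfsgLib.LocalEven.PushingUpClosure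

variable {G : Type*} [Group G] [Finite G] {p : ℕ} [Fact p.Prime] {F : Type} [Field F] [Fintype F]
  {S Q M : Subgroup G} {n : ℕ} {φ : G →* PSL2 F}

local notation "ℭ" X:max => Subgroup.centralizer (SetLike.coe X)

theorem setup_coatom (h : Setup p S M Q) {M' : Subgroup G} (hM' : IsCoatom M') (hS : S ≤ M') : M' = M := by
  by_contra hne
  by_cases hle : M' ≤ M
  · exact h.proper (hM'.2 M (lt_of_le_of_ne hle hne))
  · exact hM'.1 (h.top_of M' hS hle)

/-- A subgroup above `Q` covering the quotient is everything. -/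
theorem top_of_cover (X : Hyp p S Q M n φ) {H : Subgroup G} (hQ : Q ≤ H) (h : H.map φ = ⊤) : H = ⊤ := by
  by_contra hne
  obtain ⟨M₁, hM₁, hle⟩ := (eq_top_or_exists_le_coatom H).resolve_left hne
  have hM₁φ : M₁.map φ = ⊤ := top_le_iff.1 (h ▸ Subgroup.map_mono hle)
  have hsup : M₁ ⊔ φ.ker = ⊤ := by
    rw [← Subgroup.comap_map_eq, hM₁φ, Subgroup.comap_top]
  obtain ⟨P, hP⟩ := X.setup.sylow
  -- the index of `M₁` is prime to `p`
  have hndvd : ¬ p ∣ M₁.index := by
    intro hd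
    have hQk : Q ≤ M₁ ⊓ φ.ker := le_inf (hQ.trans hle) fun q hq => MonoidHom.mem_ker.2 (X.map_Q q hq)
    have h1 : M₁.relIndex φ.ker = M₁.index := by
      have hk : φ.ker.relIndex M₁ = φ.ker.index := by
        conv_rhs => rw [← Subgroup.relIndex_top_right, ← hsup, Subgroup.relIndex_sup_right]
      have ha := Subgroup.relIndex_mul_index (inf_le_left : M₁ ⊓ φ.ker ≤ M₁)
      rw [← Subgroup.relIndex_mul_index (inf_le_right : M₁ ⊓ φ.ker ≤ φ.ker), Subgroup.inf_relIndex_left,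
        Subgroup.inf_relIndex_right, hk, mul_comm (M₁.relIndex φ.ker)] at ha
      exact (Nat.eq_of_mul_eq_mul_left (Nat.pos_of_ne_zero Subgroup.index_ne_zero_of_finite) ha).symm
    have h2 : M₁.index ∣ Q.relIndex φ.ker := by
      rw [← h1, ← Subgroup.inf_relIndex_right]
      exact Subgroup.relIndex_dvd_of_le_left φ.ker hQk
    have h3 : p ∣ Q.relIndex φ.ker := hd.trans h2
    haveI := X.setup.normal
    have h4 : p ∣ Nat.card (↥φ.ker ⧸ Q.subgroupOf φ.ker) := h3
    obtain ⟨y, hy⟩ := exists_prime_orderOf_dvd_card' p h4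
    obtain ⟨⟨k, hk⟩, rfl⟩ := QuotientGroup.mk'_surjective (Q.subgroupOf φ.ker) y
    obtain ⟨a, m, hm, e⟩ := Nat.exists_eq_pow_mul_and_not_dvd (orderOf_pos k).ne' p (Fact.out : p.Prime).ne_one
    have hkm : k ^ m ∈ Q := X.mem_Q_of_ker (by rw [map_pow, MonoidHom.mem_ker.1 hk, one_pow]) (by
      have h1 : (k ^ m) ^ p ^ a = 1 := by rw [← pow_mul, mul_comm, ← e, pow_orderOf_eq_one]
      obtain ⟨i, -, hi⟩ := (Nat.dvd_prime_pow (Fact.out : p.Prime)).1 (orderOf_dvd_of_pow_eq_one h1)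
      exact IsPGroup.of_card (n := i) (by rw [Nat.card_zpowers, hi]))
    have h5 : (QuotientGroup.mk' (Q.subgroupOf φ.ker) ⟨k, hk⟩) ^ m = 1 := by
      rw [← map_pow]
      exact (QuotientGroup.eq_one_iff _).2 (Subgroup.mem_subgroupOf.2 (by simpa using hkm))
    exact hm (hy ▸ orderOf_dvd_of_pow_eq_one h5)
  -- so it contains a conjugate of `S`
  let R : Sylow p M₁ := Classical.arbitrary _
  have hcard : Nat.card ↥((R : Subgroup M₁).map M₁.subtype) = p ^ (Nat.card G).factorization p := by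
    rw [Subgroup.card_map_of_injective M₁.subtype_injective, R.card_eq_multiplicity, ← M₁.card_mul_index,
      Nat.factorization_mul Nat.card_pos.ne' Subgroup.index_ne_zero_of_finite, Finsupp.add_apply,
      Nat.factorization_eq_zero_of_not_dvd hndvd, add_zero]
  let R' : Sylow p G := Sylow.ofCard _ hcard
  obtain ⟨g, hg⟩ := MulAction.exists_smul_eq G R' P
  set M₂ := M₁.map (MulAut.conj g).toMonoidHom with hM₂
  have hSle : S ≤ M₂ := by
    rw [← hP, ← hg]
    rintro _ ⟨x, hx, rfl⟩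
    obtain ⟨y, -, rfl⟩ := (show x ∈ (R : Subgroup M₁).map M₁.subtype from hx)
    exact ⟨y, y.2, rfl⟩
  have hM₂φ : M₂.map φ = ⊤ := by
    rw [eq_top_iff]
    intro y _
    obtain ⟨x, hx, hxy⟩ : (φ g)⁻¹ * y * φ g ∈ M₁.map φ := hM₁φ ▸ Subgroup.mem_top _
    refine ⟨g * x * g⁻¹, ⟨x, hx, rfl⟩, ?_⟩
    rw [map_mul, map_mul, map_inv, hxy]
    group
  have h2 := X.eq_top_of_map hSle hM₂φ
  refine hM₁.1 (eq_top_iff.2 fun x _ => ?_)
  obtain ⟨y, hy, hxy⟩ : g * x * g⁻¹ ∈ M₂ := h2 ▸ Subgroup.mem_top _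
  rwa [← (MulAut.conj g).injective (hxy : (MulAut.conj g) y = (MulAut.conj g) x)]

/-- Every element is a product of a `p`-element and an element of order prime to `p`. -/
theorem closure_coprime_sup (X : Hyp p S Q M n φ) {L : Subgroup G} [L.Normal] {H : Subgroup G}
    (hS : S ⊓ L ≤ H) (hc : ∀ x ∈ L, (orderOf x).Coprime p → x ∈ H) : L ≤ H := by
  intro x hx
  have h := Solvable.Cores.eq_top_of_sylow_le (H := H.subgroupOf L) fun q hq => ?_
  · exact (h ▸ Subgroup.mem_top (⟨x, hx⟩ : L) : (⟨x, hx⟩ : L) ∈ H.subgroupOf L)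
  by_cases hqp : q = p
  · subst hqp
    obtain ⟨P, hP⟩ := X.setup.sylow
    obtain ⟨R, hR⟩ := CfsgLib.Coprime.exists_sylow_map_eq (inf_le_right : (P : Subgroup G) ⊓ L ≤ L)
      (CfsgLib.LocalEvenB.SubnormalSylow.card_inf_sylow P (Subgroup.Normal.isSubnormal inferInstance))
    refine ⟨R, fun y hy => Subgroup.mem_subgroupOf.2 (hS ?_)⟩
    rw [← hP, ← hR]
    exact ⟨y, hy, rfl⟩
  · haveI := Fact.mk hq
    obtain ⟨R⟩ : Nonempty (Sylow q L) := inferInstance
    refine ⟨R, fun y hy => Subgroup.mem_subgroupOf.2 (hc _ y.2 ?_)⟩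
    obtain ⟨a, ha⟩ := R.isPGroup' ⟨y, hy⟩
    exact Nat.Coprime.coprime_dvd_left (orderOf_dvd_of_pow_eq_one
        (congrArg (fun t : (R : Subgroup L) => ((t : L) : G)) ha |>.trans rfl))
      (Nat.Coprime.pow_left a ((Nat.coprime_primes hq Fact.out).2 hqp))

/-- The image of a subgroup of the Sylow subgroup normalised by `M` is all of the upper unitriangular group. -/
theorem up_mem_of_normalised (X : Hyp p S Q M n φ) (hp : p ≠ 2) {J : Subgroup G} (hJS : J ≤ S) (hJQ : ¬ J ≤ Q)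
    (hJn : Subgroup.normalizer (S : Set G) ≤ Subgroup.normalizer (J : Set G)) (c : F) :
    pr (up c) ∈ J.map φ := by
  haveI := X.charP
  obtain ⟨j, hj, hjQ⟩ := SetLike.not_le_iff_exists.1 hJQ
  obtain ⟨a, ha⟩ := X.exists_param (hJS hj)
  have ha0 : a ≠ 0 := fun h => hjQ (X.mem_Q_of_map (hJS hj) (by rw [ha, h, up_zero, map_one]))
  let E : AddSubgroup F :=
    { carrier := {c | pr (up c) ∈ J.map φ}
      zero_mem' := by
        show pr (up 0) ∈ J.map φ
        rw [up_zero, map_one]; exact one_mem _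
      add_mem' := fun {x y} hx hy => by
        show pr (up (x + y)) ∈ J.map φ
        rw [← up_mul, map_mul]; exact mul_mem hx hy
      neg_mem' := fun {x} hx => by
        show pr (up (-x)) ∈ J.map φ
        rw [← up_inv, map_inv]; exact inv_mem hx }
  have hsq : ∀ l : F, l ≠ 0 → ∀ x ∈ E, l * l * x ∈ E := by
    intro l hl x hx
    let d : SL(2, F) := ⟨!![l, 0; 0, l⁻¹], by simp [Matrix.det_fin_two, hl]⟩
    have hd : ∀ c, d * up c * d⁻¹ = up (l * l * c) := fun c => by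
      rw [mul_inv_eq_iff_eq_mul]
      apply Subtype.ext
      rw [Matrix.SpecialLinearGroup.coe_mul, Matrix.SpecialLinearGroup.coe_mul]
      ext i j
      fin_cases i <;> fin_cases j <;> simp [d, up, Matrix.mul_apply, Fin.sum_univ_two]
      field_simp
    obtain ⟨h, hh⟩ := X.surj (pr d)
    -- a lift normalising `S`
    obtain ⟨P, hP⟩ := X.setup.sylow
    have hmapS : ∀ y, y ∈ S.map φ ↔ ∃ c, y = pr (up c) := fun y => by
      rw [X.map]
      constructor
      · rintro ⟨u, hu, rfl⟩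
        obtain ⟨c, rfl⟩ := mem_upper.1 hu
        exact ⟨c, rfl⟩
      · rintro ⟨c, rfl⟩
        exact ⟨_, mem_upper.2 ⟨c, rfl⟩, rfl⟩
    set N₀ := (S.map φ).comap φ with hN₀
    have hS0 : S ≤ N₀ := fun s hs => ⟨s, hs, rfl⟩
    have hhN : ∀ s ∈ S, h * s * h⁻¹ ∈ N₀ := fun s hs => by
      obtain ⟨c, hc⟩ := X.exists_param hs
      show φ (h * s * h⁻¹) ∈ S.map φ
      rw [map_mul, map_mul, map_inv, hh, hc, ← map_inv, ← map_mul, ← map_mul, hd]
      exact (hmapS _).2 ⟨_, rfl⟩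
    let R₀ : Sylow p N₀ := P.subtype (hP ▸ hS0)
    have hS' : S.map (MulAut.conj h).toMonoidHom ≤ N₀ := by
      rintro _ ⟨s, hs, rfl⟩; exact hhN s hs
    have hS'p : IsPGroup p ↥((S.map (MulAut.conj h).toMonoidHom).subgroupOf N₀) :=
      (X.setup.isPGroup.map _).of_equiv (Subgroup.subgroupOfEquivOfLe hS').symm
    obtain ⟨R₁, hR₁⟩ := hS'p.exists_le_sylow
    obtain ⟨k, hk⟩ := MulAction.exists_smul_eq N₀ R₁ R₀
    have hkn : (k : G) * h ∈ Subgroup.normalizer (S : Set G) := by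
      have hle : S.map (MulAut.conj ((k : G) * h)).toMonoidHom ≤ S := by
        rintro _ ⟨s, hs, rfl⟩
        have h1 : (⟨h * s * h⁻¹, hhN s hs⟩ : N₀) ∈ (R₁ : Subgroup N₀) := hR₁ ⟨s, hs, rfl⟩
        have h2 : k * ⟨h * s * h⁻¹, hhN s hs⟩ * k⁻¹ ∈ (R₀ : Subgroup N₀) := hk ▸ ⟨_, h1, rfl⟩
        have h3 : ((k * ⟨h * s * h⁻¹, hhN s hs⟩ * k⁻¹ : N₀) : G) ∈ (P : Subgroup G) := h2
        rw [hP] at h3
        simpa [mul_assoc] using h3
      have he := Subgroup.eq_of_le_of_card_ge hle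
        (Subgroup.card_map_of_injective (MulAut.conj ((k : G) * h)).injective).ge
      rw [Subgroup.mem_normalizer_iff]
      intro s
      constructor
      · exact fun hs => hle ⟨s, hs, rfl⟩
      · intro hs
        obtain ⟨t, ht, e⟩ := he.ge hs
        rwa [← (MulAut.conj _).injective (e : (MulAut.conj ((k : G) * h)) t = (MulAut.conj ((k : G) * h)) s)]
    obtain ⟨e, he⟩ := (hmapS _).1 k.2
    obtain ⟨jx, hjx, hjx'⟩ := (show pr (up x) ∈ J.map φ from hx)
    refine ⟨(k : G) * h * jx * ((k : G) * h)⁻¹,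
      (Subgroup.mem_normalizer_iff.1 (hJn hkn) jx).1 hjx, ?_⟩
    rw [map_mul, map_mul, map_inv, map_mul, he, hh, hjx', ← map_mul, ← map_inv, ← map_mul, ← map_mul]
    congr 1
    rw [show up e * d * up x * (up e * d)⁻¹ = up e * (d * up x * d⁻¹) * (up e)⁻¹ by group, hd, up_inv, up_mul,
      up_mul, add_comm e, add_neg_cancel_right]
  have h2 : (2 : F) ≠ 0 := by
    intro h
    have : ((2 : ℕ) : F) = 0 := by simpa using h
    rw [CharP.cast_eq_zero_iff F p] at this
    exact hp ((Nat.prime_dvd_prime_iff_eq Fact.out Nat.prime_two).1 this)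
  have haE : a ∈ E := ⟨j, hj, ha⟩
  have hsq' : ∀ t : F, t * t * a ∈ E := fun t => by
    by_cases ht : t = 0
    · rw [ht, zero_mul, zero_mul]; exact E.zero_mem
    · exact hsq t ht a haE
  -- differences of two squares
  have e : c = ((c / a + 1) / 2) * ((c / a + 1) / 2) * a + -(((c / a - 1) / 2) * ((c / a - 1) / 2) * a) := by
    field_simp
    ring
  rw [e]
  exact E.add_mem (hsq' _) (E.neg_mem (hsq' _))

/-- A normal subgroup meeting the Sylow subgroup outside `Q` is again a pushing-up situation. -/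
theorem situation_normal (X : Hyp p S Q M n φ) (hp : p ≠ 2) {L : Subgroup G} [L.Normal] (hLQ : ¬ S ⊓ L ≤ Q) :
    Cfsg.IsPushingUpSituation p ((S ⊓ L).subgroupOf L) ∧ IsCoatom ((M ⊓ L).subgroupOf L) ∧ L ⊔ Q = ⊤ := by
  haveI := X.setup.normal
  obtain ⟨P, hP⟩ := X.setup.sylow
  set J := S ⊓ L with hJdef
  have hJn : Subgroup.normalizer (S : Set G) ≤ Subgroup.normalizer (J : Set G) := fun g hg => by
    have h1 := Subgroup.mem_normalizer_iff.1 hg
    rw [Subgroup.mem_normalizer_iff]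
    intro x
    exact and_congr (h1 x) (Subgroup.mem_normalizer_iff.1
      ((Subgroup.normalizer_eq_top_iff.2 (inferInstance : L.Normal)).ge (Subgroup.mem_top g)) x)
  have hU : ∀ c : F, pr (up c) ∈ J.map φ := up_mem_of_normalised X hp inf_le_left hLQ hJn
  haveI : (L.map φ).Normal := Subgroup.Normal.map inferInstance φ X.surj
  have hLφ : L.map φ = ⊤ := by
    rw [eq_top_iff]
    intro y _
    obtain ⟨z, rfl⟩ := pr_surjective y
    refine SL2Natural.sl_induction (P := fun z => pr z ∈ L.map φ) (by rw [map_one]; exact one_mem _)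
      (fun a b ha hb => by rw [map_mul]; exact mul_mem ha hb) (fun c => Subgroup.map_mono inf_le_right (hU c))
      (fun c => ?_) z
    have h := (inferInstance : (L.map φ).Normal).conj_mem _ (Subgroup.map_mono inf_le_right (hU (-c)))
      (pr (SL2Natural.wE 1))
    rwa [← map_inv, ← map_mul, ← map_mul, ← SL2Natural.low_eq] at h
  have hLQtop : L ⊔ Q = ⊤ :=
    top_of_cover X le_sup_right (top_le_iff.1 (hLφ ▸ Subgroup.map_mono le_sup_left))
  set Q₂ := Q ⊓ L with hQ₂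
  have hQ₂J : Q₂ ≤ J := inf_le_inf_right _ X.setup.le
  obtain ⟨R, hR⟩ := CfsgLib.Coprime.exists_sylow_map_eq (inf_le_right : J ≤ L)
    (hP ▸ CfsgLib.LocalEvenB.SubnormalSylow.card_inf_sylow P (Subgroup.Normal.isSubnormal inferInstance))
  have hRe : (R : Subgroup L) = J.subgroupOf L := Subgroup.map_injective L.subtype_injective (by
    rw [hR, Subgroup.map_subgroupOf_eq_of_le inf_le_right])
  have hQ₂core : Q₂.subgroupOf L ≤ Cfsg.pCore p ↥L := by
    haveI : (Q₂.subgroupOf L).Normal := inferInstance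
    exact Solvable.Cores.le_pCore ((X.setup.isPGroup.to_le (inf_le_left.trans X.setup.le)).of_equiv
      (Subgroup.subgroupOfEquivOfLe inf_le_right).symm)
  have hcent : ℭ (Cfsg.pCore p ↥L) ≤ Cfsg.pCore p ↥L := by
    haveI := normal_centralizer (show Q₂.Normal from inferInstance)
    set C := ℭ Q₂ ⊓ L with hC
    have hCp : IsPGroup p C := by
      intro ⟨x, hx⟩
      obtain ⟨a, m, hm, e⟩ := Nat.exists_eq_pow_mul_and_not_dvd (orderOf_pos x).ne' p (Fact.out : p.Prime).ne_one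
      set y := x ^ p ^ a with hy
      have hym : y ^ m = 1 := by rw [hy, ← pow_mul, ← e, pow_orderOf_eq_one]
      have hyc : (orderOf y).Coprime p := Nat.Coprime.coprime_dvd_left (orderOf_dvd_of_pow_eq_one hym)
        ((Fact.out : p.Prime).coprime_iff_not_dvd.2 hm).symm
      have hyC : y ∈ C := C.pow_mem hx _
      have hyQ : y ∈ ℭ Q := fun t ht => by
        set c := y * t * y⁻¹ * t⁻¹ with hc
        have hcL : c ∈ L := by
          rw [hc, show y * t * y⁻¹ * t⁻¹ = y * (t * y⁻¹ * t⁻¹) by group]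
          exact mul_mem hyC.2 ((inferInstance : L.Normal).conj_mem _ (inv_mem hyC.2) t)
        have hcQ : c ∈ Q := mul_mem ((inferInstance : Q.Normal).conj_mem t ht y) (inv_mem ht)
        obtain ⟨k, hk⟩ := (X.setup.isPGroup.to_le X.setup.le) ⟨c, hcQ⟩
        have h1 := fixed_of_step (u := t) (c := c) (by rw [hc]; group)
          (hyC.1 c ⟨hcQ, hcL⟩).symm hyc ⟨k, by simpa using congrArg Subtype.val hk⟩
        calc t * y = c * (t * y) := by rw [h1, one_mul]
          _ = y * t := by rw [hc]; group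
      obtain ⟨k, hk⟩ := (X.setup.isPGroup.to_le X.setup.le) ⟨y, X.setup.cent hyQ⟩
      exact ⟨a + k, Subtype.ext (by simpa [hy, pow_add, pow_mul] using congrArg Subtype.val hk)⟩
    intro x hx
    have hxC : (x : G) ∈ C := ⟨fun t ht => congrArg Subtype.val (hx ⟨t, ht.2⟩ (hQ₂core ht)), x.2⟩
    exact hQ₂core ⟨X.setup.maximal C inferInstance hCp hxC, x.2⟩
  have hJM : J ≤ M ⊓ L := inf_le_inf_right _ X.setup.sleM
  have hcover : ∀ H : Subgroup G, H ≤ L → J ≤ H → ¬ H ≤ M → H = L := by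
    intro H hHL hJH hHM
    have hSn : S ⊔ H = ⊤ := X.setup.top_of _ le_sup_left fun h => hHM (le_sup_right.trans h)
    have hHφ : H.map φ = ⊤ := by
      refine top_le_iff.1 ?_
      rw [← Subgroup.map_top_of_surjective φ X.surj, ← hSn, Subgroup.map_sup]
      refine sup_le ?_ le_rfl
      rintro _ ⟨s, hs, rfl⟩
      obtain ⟨c, hc⟩ := X.exists_param hs
      exact hc ▸ Subgroup.map_mono hJH (hU c)
    have h1 := top_of_cover X (H := H ⊔ Q) le_sup_right (top_le_iff.1 (hHφ ▸ Subgroup.map_mono le_sup_left))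
    refine le_antisymm hHL fun x hx => ?_
    obtain ⟨h', hh', t, ht, rfl⟩ := Subgroup.mem_sup_of_normal_right.1 (h1 ▸ Subgroup.mem_top x)
    refine mul_mem hh' (hJH (hQ₂J ⟨ht, ?_⟩))
    have := mul_mem (inv_mem (hHL hh')) hx
    rwa [inv_mul_cancel_left] at this
  have hML : ¬ L ≤ M := fun hle =>
    X.setup.proper (top_le_iff.1 (hLQtop ▸ sup_le hle (X.setup.le.trans X.setup.sleM)))
  have hcoatom : IsCoatom ((M ⊓ L).subgroupOf L) := by
    refine ⟨fun h => hML fun x hx => ((Subgroup.mem_subgroupOf.1 (h ▸ Subgroup.mem_top (⟨x, hx⟩ : L)) : x ∈ M ⊓ L)).1,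
      fun H hH => ?_⟩
    have h1 := hcover (H.map L.subtype) (Subgroup.map_subtype_le H)
      (fun x hx => ⟨⟨x, hx.2⟩, hH.le (Subgroup.mem_subgroupOf.2 (hJM hx)), rfl⟩) fun hle => not_le_of_gt hH fun y hy =>
        Subgroup.mem_subgroupOf.2 ⟨hle ⟨y, hy, rfl⟩, y.2⟩
    rw [eq_top_iff]
    intro y _
    obtain ⟨z, hz, e⟩ : (y : G) ∈ H.map L.subtype := h1.ge y.2
    rwa [← Subtype.ext (e : (z : G) = y)]
  refine ⟨⟨?_, ⟨R, hRe⟩, hcent, ⟨_, ⟨hcoatom, Subgroup.comap_mono hJM⟩, fun H hH => ?_⟩, ?_⟩, hcoatom, hLQtop⟩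
  · intro h
    obtain ⟨x, hx, hxQ⟩ := SetLike.not_le_iff_exists.1 hLQ
    have : (⟨x, hx.2⟩ : L) = 1 := Subgroup.mem_bot.1 (h ▸ Subgroup.mem_top _)
    exact hxQ (by rw [show x = 1 from congrArg Subtype.val this]; exact one_mem _)
  · by_cases hle : H.map L.subtype ≤ M
    · have h2 : H ≤ (M ⊓ L).subgroupOf L := fun y hy => Subgroup.mem_subgroupOf.2 ⟨hle ⟨y, hy, rfl⟩, y.2⟩
      rcases lt_or_eq_of_le h2 with h | h
      · exact absurd (hH.1.2 _ h) hcoatom.1
      · exact h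
    · exfalso
      have h1 := hcover (H.map L.subtype) (Subgroup.map_subtype_le H)
        (fun x hx => ⟨⟨x, hx.2⟩, hH.2 (Subgroup.mem_subgroupOf.2 hx), rfl⟩) hle
      refine hH.1.1 (eq_top_iff.2 fun y _ => ?_)
      obtain ⟨z, hz, e⟩ : (y : G) ∈ H.map L.subtype := h1.ge y.2
      rwa [← Subtype.ext (e : (z : G) = y)]
  · have hsurj : Function.Surjective (φ.comp L.subtype) := fun y => by
      obtain ⟨x, hx, rfl⟩ : y ∈ L.map φ := hLφ ▸ Subgroup.mem_top y
      exact ⟨⟨x, hx⟩, rfl⟩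
    exact ⟨(φ.comp L.subtype).ker, inferInstance, F, inferInstance, inferInstance, n, X.card,
      ⟨QuotientGroup.quotientKerEquivOfSurjective _ hsurj⟩⟩

/-- The focal condition climbs from a normal subgroup covering the quotient. -/
theorem good_normal (X : Hyp p S Q M n φ) {L : Subgroup G} [L.Normal] (hLQ : L ⊔ Q = ⊤)
    (h : Good ((S ⊓ L).subgroupOf L) ((M ⊓ L).subgroupOf L)) : Good S M := by
  haveI := X.setup.normal
  have hQS := X.setup.le
  have hSM := X.setup.sleM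
  have hL' : S ⊓ ⁅L, L⁆ ≤ ⁅M, M⁆ := by
    intro x hx
    obtain ⟨hxS, hxL⟩ := Subgroup.mem_inf.1 hx
    have hxL0 : x ∈ L := Subgroup.commutator_le_left L L hxL
    have h1 : (⟨x, hxL0⟩ : L) ∈ commutator ↥L := by
      obtain ⟨y, hy, e⟩ := (Subgroup.map_subtype_commutator L).ge hxL
      exact (Subtype.ext (e : (y : G) = x) : y = ⟨x, hxL0⟩) ▸ hy
    have h2 := h ⟨Subgroup.mem_subgroupOf.2 ⟨hxS, hxL0⟩, h1⟩
    have h3 : x ∈ (⁅(M ⊓ L).subgroupOf L, (M ⊓ L).subgroupOf L⁆).map L.subtype := ⟨_, h2, rfl⟩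
    rw [Subgroup.map_commutator, Subgroup.map_subgroupOf_eq_of_le inf_le_right] at h3
    exact Subgroup.commutator_mono inf_le_left inf_le_left h3
  set T₂ := Q ⊓ L with hT₂
  set E := T₂ ⊓ ⁅M, M⁆ with hE
  -- `E` is normal
  have hcent : ∀ g ∈ L, ∀ t ∈ T₂, g * t * g⁻¹ * t⁻¹ ∈ E := by
    intro g hg t ht
    have h1 : g * t * g⁻¹ * t⁻¹ ∈ T₂ :=
      mul_mem ((inferInstance : T₂.Normal).conj_mem t ht g) (inv_mem ht)
    exact ⟨h1, hL' ⟨hQS h1.1, Subgroup.commutator_mem_commutator hg ht.2⟩⟩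
  have hQE : ∀ q ∈ Q, ∀ e ∈ E, q * e * q⁻¹ ∈ E := fun q hq e he => by
    refine ⟨(inferInstance : T₂.Normal).conj_mem e he.1 q, ?_⟩
    have h1 : q * e * q⁻¹ * e⁻¹ ∈ ⁅M, M⁆ :=
      Subgroup.commutator_mem_commutator (hSM (hQS hq)) (hSM (hQS he.1.1))
    have := mul_mem h1 he.2
    rwa [inv_mul_cancel_right] at this
  haveI hEn : E.Normal := ⟨fun e he g => by
    obtain ⟨l, hl, q, hq, rfl⟩ := Subgroup.mem_sup_of_normal_right.1 (hLQ ▸ Subgroup.mem_top g)
    have h1 := hQE q hq e he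
    have h2 := mul_mem (hcent l hl _ h1.1) h1
    rw [inv_mul_cancel_right] at h2
    convert h2 using 1
    group⟩
  -- `L` centralises `Q` modulo `E`
  let C : Subgroup G :=
    { carrier := {g | g ∈ L ∧ ∀ t ∈ Q, g * t * g⁻¹ * t⁻¹ ∈ E}
      one_mem' := ⟨one_mem _, fun t _ => by simp⟩
      mul_mem' := fun {g k} hg hk => ⟨mul_mem hg.1 hk.1, fun t ht => by
        rw [show g * k * t * (g * k)⁻¹ * t⁻¹ = g * (k * t * k⁻¹ * t⁻¹) * g⁻¹ * (g * t * g⁻¹ * t⁻¹) by group]
        exact mul_mem (hEn.conj_mem _ (hk.2 t ht) g) (hg.2 t ht)⟩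
      inv_mem' := fun {g} hg => ⟨inv_mem hg.1, fun t ht => by
        rw [show g⁻¹ * t * g⁻¹⁻¹ * t⁻¹ = g⁻¹ * (g * t * g⁻¹ * t⁻¹)⁻¹ * g⁻¹⁻¹ by group]
        exact hEn.conj_mem _ (inv_mem (hg.2 t ht)) g⁻¹⟩ }
  have hC : L ≤ C := by
    refine closure_coprime_sup X (fun x hx => ⟨hx.2, fun t ht => ⟨⟨?_, ?_⟩, ?_⟩⟩) fun x hxL hx => ⟨hxL, fun t ht => ?_⟩
    · exact mul_mem ((inferInstance : Q.Normal).conj_mem t ht x) (Q.inv_mem ht)
    · rw [show x * t * x⁻¹ * t⁻¹ = x * (t * x⁻¹ * t⁻¹) by group]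
      exact mul_mem (Subgroup.mem_inf.1 hx).2 ((inferInstance : L.Normal).conj_mem _ (inv_mem (Subgroup.mem_inf.1 hx).2) t)
    · exact Subgroup.commutator_mem_commutator (hSM hx.1) (hSM (hQS ht))
    · obtain ⟨c, hc⟩ : ∃ c, c = x * t * x⁻¹ * t⁻¹ := ⟨_, rfl⟩
      rw [← hc]
      have hcT : c ∈ T₂ := ⟨hc ▸ mul_mem ((inferInstance : Q.Normal).conj_mem t ht x) (Q.inv_mem ht), by
        rw [hc, show x * t * x⁻¹ * t⁻¹ = x * (t * x⁻¹ * t⁻¹) by group]
        exact mul_mem hxL ((inferInstance : L.Normal).conj_mem _ (inv_mem hxL) t)⟩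
      obtain ⟨k, hk⟩ := (X.setup.isPGroup.to_le hQS) ⟨c, hcT.1⟩
      refine (QuotientGroup.eq_one_iff (N := E) c).1 (fixed_of_step (p := p) (x := QuotientGroup.mk' E x)
        (u := QuotientGroup.mk' E t) (c := QuotientGroup.mk' E c) ?_ ?_
        (Nat.Coprime.coprime_dvd_left (orderOf_map_dvd _ _) hx) ⟨k, ?_⟩)
      · rw [← map_inv, ← map_mul, ← map_mul, ← map_mul, hc]
        congr 1
        group
      · have h1 : QuotientGroup.mk' E (x * c * x⁻¹ * c⁻¹) = 1 := (QuotientGroup.eq_one_iff _).2 (hcent x hxL c hcT)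
        rw [map_mul, map_mul, map_mul, map_inv, map_inv, mul_inv_eq_one, mul_inv_eq_iff_eq_mul] at h1
        exact h1
      · rw [← map_pow, show c ^ p ^ k = 1 by simpa using congrArg Subtype.val hk, map_one]
  -- the derived group
  set N₀ := ⁅L, L⁆ ⊔ E ⊔ ⁅Q, Q⁆ with hN₀
  haveI : N₀.Normal := inferInstance
  have hG : commutator G ≤ N₀ := by
    set π := QuotientGroup.mk' N₀
    have hkill : ∀ {a b : G}, a * b * a⁻¹ * b⁻¹ ∈ N₀ → Commute (π a) (π b) := fun {a b} hab => by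
      have h1 : π (a * b * a⁻¹ * b⁻¹) = 1 := (QuotientGroup.eq_one_iff _).2 hab
      rw [map_mul, map_mul, map_mul, map_inv, map_inv, mul_inv_eq_one, mul_inv_eq_iff_eq_mul] at h1
      exact h1
    refine Subgroup.commutator_le.2 fun a _ b _ => ?_
    obtain ⟨l, hl, q, hq, rfl⟩ := Subgroup.mem_sup_of_normal_right.1 (hLQ ▸ Subgroup.mem_top a)
    obtain ⟨l', hl', q', hq', rfl⟩ := Subgroup.mem_sup_of_normal_right.1 (hLQ ▸ Subgroup.mem_top b)
    have c1 : Commute (π l) (π l') :=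
      hkill (Subgroup.mem_sup_left (Subgroup.mem_sup_left (Subgroup.commutator_mem_commutator hl hl')))
    have c2 : Commute (π l) (π q') := hkill (Subgroup.mem_sup_left (Subgroup.mem_sup_right ((hC hl).2 q' hq')))
    have c3 : Commute (π q) (π l') :=
      (hkill (Subgroup.mem_sup_left (Subgroup.mem_sup_right ((hC hl').2 q hq)))).symm
    have c4 : Commute (π q) (π q') := hkill (Subgroup.mem_sup_right (Subgroup.commutator_mem_commutator hq hq'))
    refine (QuotientGroup.eq_one_iff _).1 (?_ : π ⁅l * q, l' * q'⁆ = 1)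
    rw [map_commutatorElement, map_mul, map_mul, commutatorElement_eq_one_iff_commute]
    exact (c1.mul_right c2).mul_left (c3.mul_right c4)
  intro x hx
  obtain ⟨hxS, hxG⟩ := Subgroup.mem_inf.1 hx
  obtain ⟨a, ha, b, hb, rfl⟩ : ∃ a ∈ ⁅L, L⁆, ∃ b ∈ E ⊔ ⁅Q, Q⁆, a * b = x :=
    Subgroup.mem_sup_of_normal_left.1 (sup_assoc ⁅L, L⁆ E ⁅Q, Q⁆ ▸ hG hxG)
  have hb1 : E ⊔ ⁅Q, Q⁆ ≤ S ⊓ ⁅M, M⁆ := sup_le (inf_le_inf_right _ (inf_le_left.trans hQS))
    (le_inf ((Subgroup.commutator_le_left Q Q).trans hQS) (Subgroup.commutator_mono (hQS.trans hSM) (hQS.trans hSM)))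
  obtain ⟨hbS, hbM⟩ := Subgroup.mem_inf.1 (hb1 hb)
  refine mul_mem (hL' ⟨?_, ha⟩) hbM
  have := mul_mem hxS (inv_mem hbS)
  rwa [mul_inv_cancel_right] at this

/-- Situations pass to the quotient by a central subgroup of the Sylow subgroup. -/
theorem situation_quotient (h : Cfsg.IsPushingUpSituation p S) (hM : IsCoatom M) (hSM : S ≤ M)
    {Z₀ : Subgroup G} [Z₀.Normal] (hZS : Z₀ ≤ S) (hZc : Z₀ ≤ Subgroup.center G) :
    Cfsg.IsPushingUpSituation p (S.map (QuotientGroup.mk' Z₀)) ∧ IsCoatom (M.map (QuotientGroup.mk' Z₀)) := by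
  obtain ⟨P, hP, hcent, huniq, K, hK, F', iF, iFt, m, hm, hF', ⟨e⟩⟩ := CfsgLib.PushingUpFamily.pu_data h
  obtain ⟨M₀, hs⟩ := setup_of h
  haveI := hs.normal
  obtain ⟨φ', -, X⟩ := exists_hyp hs hm hF' (e.toMonoidHom.comp (QuotientGroup.mk' K))
    (e.surjective.comp (QuotientGroup.mk'_surjective K))
  set π := QuotientGroup.mk' Z₀ with hπ
  have hsurj : Function.Surjective π := QuotientGroup.mk'_surjective Z₀
  have hker : π.ker = Z₀ := QuotientGroup.ker_mk' Z₀
  have hcm : ∀ {R : Subgroup G}, Z₀ ≤ R → (R.map π).comap π = R := fun hR => by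
    rw [Subgroup.comap_map_eq, hker, sup_eq_left.2 hR]
  have hZQ : Z₀ ≤ Cfsg.pCore p G :=
    hs.maximal Z₀ inferInstance (hs.isPGroup.to_le hZS)
  have hMc : IsCoatom (M.map π) := by
    refine ⟨fun h' => hM.1 (by rw [← hcm (hZS.trans hSM), h', Subgroup.comap_top]), fun H hH => ?_⟩
    have h1 : M < H.comap π := by
      refine lt_of_le_of_ne (fun x hx => hH.le ⟨x, hx, rfl⟩) fun e' => hH.ne ?_
      rw [e', Subgroup.map_comap_eq_self_of_surjective hsurj]
    rw [← Subgroup.map_comap_eq_self_of_surjective hsurj H, hM.2 _ h1, Subgroup.map_top_of_surjective π hsurj]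
  refine ⟨⟨?_, ⟨P.mapSurjective hsurj, by rw [← hP]; rfl⟩, ?_, ⟨M.map π, ⟨hMc, Subgroup.map_mono hSM⟩, fun H hH => ?_⟩, ?_⟩, hMc⟩
  · intro h'
    refine hM.1 (top_le_iff.1 fun x _ => hSM (hZS ?_))
    rw [← hker]
    exact Subgroup.mem_bot.1 (h' ▸ Subgroup.mem_top (π x) : π x ∈ (⊥ : Subgroup (G ⧸ Z₀)))
  · intro y hy
    haveI hQn : ((Cfsg.pCore p G).map π).Normal := Subgroup.Normal.map inferInstance π hsurj
    have hQ2 : (Cfsg.pCore p G).map π ≤ Cfsg.pCore p (G ⧸ Z₀) :=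
      Solvable.Cores.le_pCore ((hs.isPGroup.to_le hs.le).map π)
    haveI := normal_centralizer hQn
    set C := (ℭ ((Cfsg.pCore p G).map π)).comap π with hC
    have hCp : IsPGroup p C := by
      intro ⟨x, hx⟩
      obtain ⟨a, i, hi, e'⟩ := Nat.exists_eq_pow_mul_and_not_dvd (orderOf_pos x).ne' p (Fact.out : p.Prime).ne_one
      set z := x ^ p ^ a with hz
      have hzi : z ^ i = 1 := by rw [hz, ← pow_mul, ← e', pow_orderOf_eq_one]
      have hzc : (orderOf z).Coprime p := Nat.Coprime.coprime_dvd_left (orderOf_dvd_of_pow_eq_one hzi)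
        ((Fact.out : p.Prime).coprime_iff_not_dvd.2 hi).symm
      have hzQ : z ∈ ℭ (Cfsg.pCore p G) := fun t ht => by
        set c := z * t * z⁻¹ * t⁻¹ with hc
        have hcZ : c ∈ Z₀ := by
          rw [← hker, MonoidHom.mem_ker, hc, map_mul, map_mul, map_mul, map_inv, map_inv, mul_inv_eq_one,
            mul_inv_eq_iff_eq_mul]
          exact ((C.pow_mem hx _ : π z ∈ ℭ ((Cfsg.pCore p G).map π)) (π t) ⟨t, ht, rfl⟩).symm
        obtain ⟨k, hk⟩ := (hs.isPGroup.to_le hZS) ⟨c, hcZ⟩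
        have h1 := fixed_of_step (u := t) (c := c) (by rw [hc]; group)
          (Subgroup.mem_center_iff.1 (hZc hcZ) z) hzc ⟨k, by simpa using congrArg Subtype.val hk⟩
        calc t * z = c * (t * z) := by rw [h1, one_mul]
          _ = z * t := by rw [hc]; group
      obtain ⟨k, hk⟩ := (hs.isPGroup.to_le hs.le) ⟨z, hs.cent hzQ⟩
      exact ⟨a + k, Subtype.ext (by simpa [hz, pow_add, pow_mul] using congrArg Subtype.val hk)⟩
    obtain ⟨x, rfl⟩ := hsurj y
    exact hQ2 ⟨x, hs.maximal C inferInstance hCp (Subgroup.centralizer_le hQ2 hy), rfl⟩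
  · have h1 : H.comap π = M₀ := by
      refine setup_coatom hs ?_ fun x hx => hH.2 ⟨x, hx, rfl⟩
      refine ⟨fun h' => hH.1.1 ?_, fun R hR => ?_⟩
      · rw [← Subgroup.map_comap_eq_self_of_surjective hsurj H, h', Subgroup.map_top_of_surjective π hsurj]
      · have hZR : Z₀ ≤ R := fun x hx => hR.le (by
          rw [Subgroup.mem_comap, show π x = 1 from (QuotientGroup.eq_one_iff _).2 hx]; exact one_mem _)
        have h2 : H < R.map π := by
          refine lt_of_le_of_ne (fun y hy => ?_) fun e' => hR.ne (by rw [e', hcm hZR])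
          obtain ⟨x, rfl⟩ := hsurj y
          exact ⟨x, hR.le hy, rfl⟩
        rw [← hcm hZR, hH.1.2 _ h2, Subgroup.comap_top]
    rw [← setup_coatom hs hM hSM] at h1
    rw [← h1, Subgroup.map_comap_eq_self_of_surjective hsurj]
  · let φ₀ := QuotientGroup.lift Z₀ φ' fun z hz => X.map_Q z (hZQ hz)
    have hs₀ : Function.Surjective φ₀ := fun y => by
      obtain ⟨x, rfl⟩ := X.surj y
      exact ⟨π x, rfl⟩
    exact ⟨φ₀.ker, inferInstance, F', iF, iFt, m, hF', ⟨QuotientGroup.quotientKerEquivOfSurjective φ₀ hs₀⟩⟩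

/-- The focal condition lifts from a central quotient. -/
theorem good_of_quotient (P : Sylow p G) {M : Subgroup G} (hSM : (P : Subgroup G) ≤ M) {Z₀ : Subgroup G} [Z₀.Normal]
    (hZS : Z₀ ≤ (P : Subgroup G)) (hZc : Z₀ ≤ Subgroup.center G)
    (h : Good ((P : Subgroup G).map (QuotientGroup.mk' Z₀)) (M.map (QuotientGroup.mk' Z₀))) :
    Good (P : Subgroup G) M := by
  intro x hx
  obtain ⟨hxS, hxG⟩ := Subgroup.mem_inf.1 hx
  have h1 : QuotientGroup.mk' Z₀ x ∈ commutator (G ⧸ Z₀) :=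
    Subgroup.commutator_mono le_top le_top ((Subgroup.map_commutator ⊤ ⊤ _).le ⟨x, hxG, rfl⟩)
  have h2 := h ⟨⟨x, hxS, rfl⟩, h1⟩
  rw [← Subgroup.map_commutator] at h2
  obtain ⟨c, hc, hcx⟩ := h2
  have hz : c⁻¹ * x ∈ Z₀ := QuotientGroup.eq.1 hcx
  have hzG : c⁻¹ * x ∈ commutator G :=
    mul_mem (inv_mem (Subgroup.commutator_mono le_top le_top hc)) hxG
  have := mul_mem hc (Subgroup.commutator_mono hSM hSM (central_mem P (hZS hz) (hZc hz) hzG))
  rwa [mul_inv_cancel_left] at this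

end CfsgLib.PushingUpSingle
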