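/-
One characteristic subgroup that is normal in every pushing-up situation without the focal condition.
-/
import Cfsg.Agent.Lib.PushingUpSingle.Descend
import Mathlib.GroupTheory.GroupAction.ConjAct

set_option autoImplicit false
set_option linter.unusedSectionVars false
set_option linter.style.haveILetI false

open Matrix
open scoped MatrixGroups commutatorElement

universe u

namespace CfsgLib.PushingUpSingle

open CfsgLib.PushingUpFamily CfsgLib.PushingUpRankOne CfsgLib.LocalEvenB.PushingUp CfsgLib.LocalEvenB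
  CfsgLib.LocalEven.PushingUpClosure CfsgLib.LocalEvenB.CDMeasure CfsgLib.LocalEvenB.CentrallyLarge

local notation "ℭ" X:max => Subgroup.centralizer (SetLike.coe X)

variable {p : ℕ} [Fact p.Prime]

/-- What is asked of the subgroup. -/
def Works (p : ℕ) (B : Type u) [Group B] (K : Subgroup B) : Prop :=
  ∀ (G : Type u) [Group G] [Finite G] (τ : B →* G), Function.Injective τ →
    Cfsg.IsPushingUpSituation p τ.range → ∀ M : Subgroup G, IsCoatom M → τ.range ≤ M →
      ¬ (Subgroup.center B).map τ ≤ Subgroup.center G → Good τ.range M ∨ (K.map τ).Normal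

/-- A characteristic subgroup of a characteristic subgroup is characteristic. -/
theorem char_map_subtype {T : Type*} [Group T] {C : Subgroup T} (hC : C.Characteristic) {A : Subgroup C}
    (hA : A.Characteristic) : (A.map C.subtype).Characteristic := by
  refine Subgroup.characteristic_iff_map_le.mpr fun φ => ?_
  rintro _ ⟨_, ⟨a, ha, rfl⟩, rfl⟩
  have h1 : ∀ x ∈ C, φ x ∈ C := fun x hx => (Subgroup.characteristic_iff_map_eq.mp hC φ).le ⟨x, hx, rfl⟩
  have h2 : ∀ x ∈ C, φ.symm x ∈ C := fun x hx =>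
    (Subgroup.characteristic_iff_map_eq.mp hC φ.symm).le ⟨x, hx, rfl⟩
  let e : ↥C ≃* ↥C :=
    { toFun := fun x => ⟨φ x, h1 x x.2⟩
      invFun := fun x => ⟨φ.symm x, h2 x x.2⟩
      left_inv := fun x => Subtype.ext (φ.symm_apply_apply x)
      right_inv := fun x => Subtype.ext (φ.apply_symm_apply x)
      map_mul' := fun x y => Subtype.ext (map_mul φ (x : T) y) }
  exact ⟨e a, (Subgroup.characteristic_iff_map_eq.mp hA e).le ⟨a, ha, rfl⟩, rfl⟩

/-- The preimage of a characteristic subgroup of a characteristic quotient. -/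
theorem char_comap_mk {T : Type*} [Group T] {Z : Subgroup T} [Z.Normal] (hZ : Z.Characteristic)
    {A : Subgroup (T ⧸ Z)} (hA : A.Characteristic) : (A.comap (QuotientGroup.mk' Z)).Characteristic := by
  refine Subgroup.characteristic_iff_map_le.mpr fun φ => ?_
  rintro _ ⟨x, hx, rfl⟩
  let e : T ⧸ Z ≃* T ⧸ Z := QuotientGroup.congr Z Z φ (Subgroup.characteristic_iff_map_eq.mp hZ φ)
  exact (Subgroup.characteristic_iff_map_eq.mp hA e).le ⟨_, hx, rfl⟩

/-- A characteristic subgroup of a subgroup with normal image has normal image. -/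
theorem normal_map_char {T G : Type*} [Group T] [Group G] {τ : T →* G} (hτ : Function.Injective τ)
    {C : Subgroup T} (hC : (C.map τ).Normal) {A : Subgroup C} (hA : A.Characteristic) :
    ((A.map C.subtype).map τ).Normal := by
  let e : ↥C ≃* ↥(C.map τ) := C.equivMapOfInjective τ hτ
  haveI : (A.map e.toMonoidHom).Characteristic := Subgroup.characteristic_iff_map_eq.2 fun f => by
    have h := Subgroup.characteristic_iff_map_eq.1 hA ((e.trans f).trans e.symm)
    conv_rhs => rw [← h]
    rw [Subgroup.map_map, Subgroup.map_map]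
    congr 1
    ext x
    simp
  have e1 : (A.map C.subtype).map τ = (A.map e.toMonoidHom).map (C.map τ).subtype := by
    rw [Subgroup.map_map, Subgroup.map_map]; rfl
  rw [e1]
  haveI := hC
  infer_instance

/-- The data of a situation, with the given maximal subgroup. -/
theorem situation_hyp {G : Type*} [Group G] [Finite G] {R M : Subgroup G} (hpu : Cfsg.IsPushingUpSituation p R)
    (hM : IsCoatom M) (hle : R ≤ M) :
    ∃ (F : Type) (_ : Field F) (_ : Fintype F) (n : ℕ) (φ : G →* PSL2 F),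
      PushingUpRankOne.Hyp p R (Cfsg.pCore p G) M n φ := by
  obtain ⟨P, hP, h1, h2, K, hK, F, iF, iFt, n, hn, hF, ⟨e⟩⟩ := pu_data hpu
  obtain ⟨M₀, hs⟩ := setup_of hpu
  obtain rfl := setup_coatom hs hM hle
  obtain ⟨φ, -, X⟩ := exists_hyp hs hn hF (e.toMonoidHom.comp (QuotientGroup.mk' K))
    (e.surjective.comp (QuotientGroup.mk'_surjective K))
  exact ⟨F, iF, iFt, n, φ, X⟩

/-- The instance of `PushingUpCases.Hyp`. -/
theorem cases_hyp {G : Type*} [Group G] [Finite G] {R : Subgroup G} (hpu : Cfsg.IsPushingUpSituation p R) :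
    ∃ P : Sylow p G, (P : Subgroup G) = R ∧ LocalEven.PushingUpCases.Hyp p P := by
  obtain ⟨P, hP, h1, h2, h3⟩ := pu_data hpu
  exact ⟨P, hP, h1, h2, h3⟩

section Balanced

variable {B : Type u} [Group B] [Finite B]

/-- A situation without the focal condition over a balanced group. -/
structure Member (p : ℕ) [Fact p.Prime] (B : Type u) [Group B] [Finite B] where
  grp : Type u
  [isGroup : Group grp]
  [isFinite : Finite grp]
  τ : B →* grp
  inj : Function.Injective τ
  hpu : Cfsg.IsPushingUpSituation p τ.range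
  M : Subgroup grp
  coatom : IsCoatom M
  le : τ.range ≤ M
  noncentral : ¬ (Subgroup.center B).map τ ≤ Subgroup.center grp
  bad : ¬ Good τ.range M

attribute [instance] Member.isGroup Member.isFinite

theorem member_pre (hp : p ≠ 2) (H : PushingUpFamily.Balance p B) (m : Member p B) :
    ∃ (F : Type) (_ : Field F) (_ : Fintype F) (n : ℕ) (φ : m.grp →* PSL2 F) (Q : Subgroup m.grp),
      Pre p m.τ.range Q m.M n φ ∧ (∀ U, ¬ OneData p m.τ.range Q U) ∧
        (p = 3 → ∀ U Y a, ¬ TwoData p n m.τ.range Q U Y a) := by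
  obtain ⟨F, iF, iFt, n, φ, X₀⟩ := situation_hyp m.hpu m.coatom m.le
  have hZ : (Subgroup.center B).map m.τ ≤ omegaZ p m.τ.range := by
    rintro _ ⟨z, hz, rfl⟩
    have := (map_center m.inj).le ⟨z, hz, rfl⟩
    exact ⟨this.1, this.2, by rw [← map_pow, H.center_pow z hz, map_one]⟩
  have hbal := balanced_range m.inj H.top H.maxAb H.join
  have X : Pre p m.τ.range (Cfsg.pCore p m.grp) m.M n φ := ⟨X₀, fun h => m.noncentral (hZ.trans h), by
    by_contra! hall
    obtain ⟨s, hs', hsQ⟩ := X₀.exists_notQ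
    exact hsQ (hbal.gen _ hall hs')⟩
  exact ⟨F, iF, iFt, n, φ, _, X, fun U D => m.bad (good_one X hp D),
    fun _ U Y a T => m.bad (good_two X hp T)⟩

/-- The subgroup belonging to a finite family of members. -/
structure Fits {I : Type} (m : I → Member p B) (Y : Subgroup B) : Prop where
  char : Y.Characteristic
  maxCD : IsMaxCD Y
  inv : ∀ i, baseV p (m i).τ.range ≤ Y.map (m i).τ ∧ (Y.map (m i).τ).Normal
  least : ∀ R : Subgroup B, R.Characteristic →
    (∀ i, baseV p (m i).τ.range ≤ R.map (m i).τ ∧ (R.map (m i).τ).Normal) → Y ≤ R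

theorem exists_fits (hp : p ≠ 2) (H : PushingUpFamily.Balance p B) {I : Type} [Finite I] [Nonempty I]
    (m : I → Member p B) : ∃ Y, Fits m Y := by
  choose F iF iFt n φ Q hX hone htwo using fun i => member_pre hp H (m i)
  obtain ⟨Y, h1, h2, -, h4, h5⟩ := exists_invariant H.isPGroup H.center_pow H.top H.maxAb H.join
    (fun i => (m i).τ) (fun i => (m i).inj) hX hone htwo
  exact ⟨Y, h1, h2, fun i => ⟨(h4 i).1, (h4 i).2.2⟩, h5⟩

theorem exists_balanced [Nontrivial B] (hp : p ≠ 2) (H : PushingUpFamily.Balance p B) :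
    ∃ K : Subgroup B, K ≠ ⊥ ∧ K.Characteristic ∧ Works p B K := by
  classical
  suffices hK : ∃ K : Subgroup B, K ≠ ⊥ ∧ K.Characteristic ∧ ∀ m : Member p B, (K.map m.τ).Normal by
    obtain ⟨K, h1, h2, h3⟩ := hK
    refine ⟨K, h1, h2, fun G _ _ τ hτ hpu M hM hle hnc => ?_⟩
    by_cases hg : Good τ.range M
    · exact Or.inl hg
    · exact Or.inr (h3 ⟨G, τ, hτ, hpu, M, hM, hle, hnc, hg⟩)
  by_cases hm : Nonempty (Member p B)
  swap
  · exact ⟨⊤, top_ne_bot, inferInstance, fun m => absurd ⟨m⟩ hm⟩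
  obtain ⟨m₀⟩ := hm
  obtain ⟨Y, ⟨I, hI, hI', m, hY⟩, hmax⟩ := (Set.toFinite {Y : Subgroup B |
      ∃ (I : Type) (_ : Finite I) (_ : Nonempty I) (m : I → Member p B), Fits m Y}).exists_maximal (by
    obtain ⟨Y, hY⟩ := exists_fits hp H fun _ : Unit => m₀
    exact ⟨Y, Unit, inferInstance, inferInstance, _, hY⟩)
  have hnorm : ∀ k : Member p B, baseV p k.τ.range ≤ Y.map k.τ ∧ (Y.map k.τ).Normal := fun k => by
    obtain ⟨Y', hY'⟩ := exists_fits hp H (fun o : Option I => o.elim k m)
    have hle : Y ≤ Y' := hY.least Y' hY'.char fun i => hY'.inv (some i)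
    have : Y' ≤ Y := hmax ⟨Option I, inferInstance, inferInstance, _, hY'⟩ hle
    exact le_antisymm hle this ▸ hY'.inv none
  haveI := hY.char
  refine ⟨ℭ Y, fun h => ?_, inferInstance, fun k => ?_⟩
  · haveI := H.isPGroup.center_nontrivial
    have hle : Subgroup.center B ≤ ⊥ := h ▸ Subgroup.center_le_centralizer _
    exact (Subgroup.nontrivial_iff_ne_bot _).1 ‹_› (le_bot_iff.1 hle)
  · obtain ⟨F, iF, iFt, n, φ, Q, X, -, -⟩ := member_pre hp H k
    obtain ⟨hV, hN⟩ := hnorm k
    rw [← map_centralizer_range k.inj]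
    have e : k.τ.range ⊓ ℭ (Y.map k.τ) = Q ⊓ ℭ (Y.map k.τ) :=
      le_antisymm (le_inf ((inf_le_inf_left _ (Subgroup.centralizer_le hV)).trans X.inf_cent) inf_le_right)
        (inf_le_inf_right _ X.hyp.setup.le)
    rw [e]
    exact normal_inf X.hyp.setup.normal (normal_centralizer hN)

end Balanced

/-- The subgroup, for every `p`-group with `p` odd. -/
theorem exists_single (hp : p ≠ 2) (B : Type u) [Group B] [Finite B] [Nontrivial B] (hB : IsPGroup p B) :
    ∃ K : Subgroup B, K ≠ ⊥ ∧ K.Characteristic ∧ Works p B K := by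
  induction hk : Nat.card B using Nat.strong_induction_on generalizing B with
  | _ k ih =>
  subst hk
  classical
  haveI := hB.center_nontrivial
  have hZ0 : Subgroup.center B ≠ ⊥ := (Subgroup.nontrivial_iff_ne_bot _).1 ‹_›
  set J := Cfsg.thompsonSubgroupA B with hJdef
  by_cases hT : jTilde B = ⊤
  swap
  · haveI : Nontrivial (jTilde B) := (Subgroup.nontrivial_iff_ne_bot _).2 fun h =>
      hZ0 (le_bot_iff.1 (h ▸ center_le_jTilde))
    have hcard : Nat.card (jTilde B) < Nat.card B := by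
      exact lt_of_le_of_ne (Subgroup.card_le_card_group _) fun h => hT (Subgroup.eq_top_of_card_eq _ h)
    obtain ⟨K', hK0, hKc, hKw⟩ := ih _ hcard (jTilde B) (hB.to_subgroup _) rfl
    have hJc := jTilde_char (S := B)
    refine ⟨K'.map (jTilde B).subtype, fun h => hK0 ?_, char_map_subtype hJc hKc,
      fun G _ _ τ hτ hpu M hM hle hnc => ?_⟩
    · exact (Subgroup.map_eq_bot_iff_of_injective _ (jTilde B).subtype_injective).1 h
    obtain ⟨P, hP, hH⟩ := cases_hyp hpu
    have hY : (Subgroup.center B).map τ ≤ (P : Subgroup G) ⊓ ℭ (P : Subgroup G) := by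
      rw [hP, map_center hτ]
    obtain ⟨W, C₀, T, M', y, hs, -, -, -, hC₀, hJC, hsplit, hor⟩ := LocalEven.PushingUpCases.split P hH hY hnc
    have eJ : (P : Subgroup G) ⊓ ℭ (Cfsg.centerThompsonAOf (P : Subgroup G)) = (jTilde B).map τ := by
      rw [hP, map_centerThompson hτ, map_centralizer_range hτ]
      rfl
    rw [eJ] at hor hJC
    rcases hor with hn | hnT
    · exact Or.inr (normal_map_char hτ hn hKc)
    obtain ⟨F, iF, iFt, n, φ, X⟩ := situation_hyp hpu hM hle
    set L := Subgroup.normalClosure (((jTilde B).map τ : Subgroup G) : Set G) with hL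
    haveI hLn : L.Normal := Subgroup.normalClosure_normal
    haveI := normal_centralizer hC₀
    have hLC : L ≤ ℭ C₀ := Subgroup.normalClosure_le_normal hJC
    have hJL : (jTilde B).map τ ≤ L := Subgroup.subset_normalClosure
    have e : (jTilde B).map τ = τ.range ⊓ L := by
      refine le_antisymm (le_inf (Subgroup.map_le_range _ _) hJL) fun s hs' => eJ ▸ ⟨hP.symm ▸ hs'.1, fun z hz => ?_⟩
      obtain ⟨w, -, hwS, c, hc, rfl⟩ := hsplit z hz
      have e1 : Commute s w := hwS s (hP.symm ▸ hs'.1)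
      have e2 : Commute c s := hLC hs'.2 c hc
      exact ((e1.mul_right e2.symm).symm)
    have hLQ : ¬ τ.range ⊓ L ≤ Cfsg.pCore p G := fun h => hnT ((e ▸ h).trans
      (hs.maximal _ inferInstance (hs.isPGroup.to_le (hP ▸ X.setup.le))))
    obtain ⟨hpu', hM', hLtop⟩ := situation_normal X hp hLQ
    let τ' : ↥(jTilde B) →* L :=
      (τ.comp (jTilde B).subtype).codRestrict L fun x => hJL ⟨x, x.2, rfl⟩
    have hinj : Function.Injective τ' := fun a b h =>
      Subtype.ext (hτ (congrArg (fun t : L => (t : G)) h))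
    have hrange : τ'.range = (τ.range ⊓ L).subgroupOf L := by
      apply Subgroup.map_injective L.subtype_injective
      rw [Subgroup.map_subgroupOf_eq_of_le inf_le_right, MonoidHom.map_range, ← e]
      show (τ.comp (jTilde B).subtype).range = _
      rw [MonoidHom.range_comp, Subgroup.range_subtype]
    rw [← hrange] at hpu'
    have hle' : τ'.range ≤ (M ⊓ L).subgroupOf L := by
      rw [hrange]; exact Subgroup.comap_mono (inf_le_inf_right _ hle)
    have hnc' : ¬ (Subgroup.center (jTilde B)).map τ' ≤ Subgroup.center L := by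
      intro h
      apply hnc
      rintro _ ⟨z, hz, rfl⟩
      have hzJ : z ∈ jTilde B := center_le_jTilde hz
      have h1 : τ' ⟨z, hzJ⟩ ∈ Subgroup.center L := h ⟨_, Subgroup.mem_center_iff.2 fun g =>
        Subtype.ext (Subgroup.mem_center_iff.1 hz g), rfl⟩
      have h2 : L ⊔ τ.range ≤ ℭ (Subgroup.zpowers (τ z)) := by
        rw [Subgroup.zpowers_eq_closure, Subgroup.centralizer_closure]
        refine sup_le (fun g hg => ?_) ?_
        · rw [Subgroup.mem_centralizer_singleton_iff]
          exact congrArg (fun t : L => (t : G)) (Subgroup.mem_center_iff.1 h1 ⟨g, hg⟩)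
        · rintro _ ⟨b, rfl⟩
          rw [Subgroup.mem_centralizer_singleton_iff, ← map_mul, ← map_mul, Subgroup.mem_center_iff.1 hz b]
      have h3 : L ⊔ τ.range = ⊤ := top_le_iff.1 (hLtop ▸ sup_le_sup_left X.setup.le L)
      rw [h3] at h2
      exact Subgroup.mem_center_iff.2 fun g => (h2 (Subgroup.mem_top g) (τ z) (Subgroup.mem_zpowers _)).symm
    rcases hKw L τ' hinj hpu' _ hM' hle' hnc' with hg | hn
    · exact Or.inl (good_normal X hLtop (hrange ▸ hg))
    · right
      have e1 : (K'.map (jTilde B).subtype).map τ = (K'.map τ').map L.subtype := by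
        rw [Subgroup.map_map, Subgroup.map_map]; rfl
      haveI := (char_map_subtype hJc hKc)
      have hSn : τ.range ≤ Subgroup.normalizer (((K'.map (jTilde B).subtype).map τ : Subgroup G) : Set G) := by
        rw [MonoidHom.range_eq_map]
        exact (Subgroup.map_mono (Subgroup.normalizer_eq_top_iff.2
          (inferInstance : (K'.map (jTilde B).subtype).Normal)).ge).trans (Subgroup.le_normalizer_map τ)
      have hLn' : L ≤ Subgroup.normalizer (((K'.map (jTilde B).subtype).map τ : Subgroup G) : Set G) := by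
        conv_lhs => rw [← L.range_subtype, MonoidHom.range_eq_map, ← Subgroup.normalizer_eq_top_iff.2 hn]
        rw [e1]
        exact Subgroup.le_normalizer_map L.subtype
      exact Subgroup.normalizer_eq_top_iff.1 (top_le_iff.1 (hLtop ▸ sup_le hLn' (X.setup.le.trans hSn)))
  by_cases habel : IsMulCommutative B
  · refine ⟨⊤, top_ne_bot, inferInstance, fun G _ _ τ hτ hpu M hM hle hnc => Or.inr ?_⟩
    obtain ⟨P, hP, h1, -⟩ := pu_data hpu
    rw [← MonoidHom.range_eq_map]
    have hle : τ.range ≤ Cfsg.pCore p G := fun x hx => h1 fun y hy => by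
      obtain ⟨a, rfl⟩ := hx
      obtain ⟨b, rfl⟩ : y ∈ τ.range := hP ▸ Solvable.Cores.pCore_le_sylow P hy
      rw [← map_mul, ← map_mul, mul_comm']
    rw [le_antisymm hle (hP ▸ Solvable.Cores.pCore_le_sylow P)]
    infer_instance
  by_cases hna : ∃ Q : Subgroup B, MCL Q ∧ ¬ IsMulCommutative Q
  · obtain ⟨Q, hQ, hQn⟩ := hna
    haveI := commutator_characteristic hQ
    refine ⟨⁅Q, Q⁆, fun h => hQn (abelian_iff_commutator.2 h), inferInstance,
      fun G _ _ τ hτ hpu M hM hle hnc => Or.inr ?_⟩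
    set e := MonoidHom.ofInjective hτ
    obtain ⟨M₀, hs⟩ := setup_of hpu
    obtain ⟨y₀, hy₀, hy₀c⟩ := SetLike.not_le_iff_exists.1 hnc
    obtain ⟨y, hy, hyc, hyp⟩ :=
      exists_pow_central (hs.isPGroup.to_le (Subgroup.map_le_range _ _)) hy₀ hy₀c
    have hyZ := (map_center hτ).le hy
    obtain ⟨V, hVn, hVS, hTV, hVT, hab, -, hnt, -⟩ := closure_module hs hyZ.1 hyZ.2 hyp hyc
    obtain ⟨W, -, hWab, hWT, hTW, -, hb⟩ := internal_module hs hVn hVS hTV hVT hab hnt
    have hQ' : MCL (Q.map e.toMonoidHom) := Transfer.mcl_map e hQ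
    obtain ⟨hR, -, -, -, -⟩ := mcl_step hQ' hWab hWT hTW hb
    have hRT : (Q.map e.toMonoidHom ⊓ (Cfsg.pCore p G).subgroupOf τ.range) ⊔ W ≤
        (Cfsg.pCore p G).subgroupOf τ.range := sup_le inf_le_right hWT
    have he : ⁅Q, Q⁆.map τ = (⁅Q.map e.toMonoidHom, Q.map e.toMonoidHom⁆).map τ.range.subtype := by
      rw [← Subgroup.map_commutator, Subgroup.map_map]; rfl
    rw [he]
    refine ⟨fun x hx g => ?_⟩
    obtain ⟨g1, -, g3, -⟩ := conjIn_spec hs g hR hRT
    have h1 : ((⁅Q.map e.toMonoidHom, Q.map e.toMonoidHom⁆).map τ.range.subtype).map (MulAut.conj g).toMonoidHom =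
        (⁅Q.map e.toMonoidHom, Q.map e.toMonoidHom⁆).map τ.range.subtype := by
      conv_lhs => rw [hQ'.commutator_eq hR]
      rw [hQ'.commutator_eq g1, Subgroup.map_commutator, Subgroup.map_commutator, Subgroup.map_commutator, g3]
    exact h1 ▸ ⟨x, hx, rfl⟩
  simp only [not_exists, not_and, not_not] at hna
  obtain ⟨Q₀, hQ₀⟩ := exists_mcl (G := B)
  obtain ⟨hall, hiff⟩ := mcl_eq_maxAbelian hQ₀ (hna Q₀ hQ₀)
  have hJcd : IsMaxCD J := by
    obtain ⟨A₀, hA₀⟩ := exists_maxAbelian (G := B)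
    exact IsMaxCD.sSup ⟨A₀, hA₀⟩ fun A hA => (hall A hA).1
  have hJtop : J = ⊤ := by
    rw [← hJcd.double_centralizer, ← inf_centralizer_join]
    exact hT
  have hTop : IsMaxCD (⊤ : Subgroup B) := hJtop ▸ hJcd
  by_cases hel : Cfsg.IsElementaryAbelian p (Subgroup.center B)
  · exact exists_balanced hp ⟨hB, fun z hz => hel.2 z hz, hTop, fun A hA => (hall A hA).1, hJtop⟩
  set Z := Cfsg.powerClosure p 1 (Subgroup.center B) with hZdef
  have hpne : Z ≠ ⊥ := fun h => hel ⟨inferInstance, fun a ha =>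
    Subgroup.mem_bot.1 (h ▸ Subgroup.subset_closure ⟨a, ha, by rw [pow_one]⟩)⟩
  have hZle : Z ≤ Subgroup.center B := (Subgroup.closure_le _).2 (by
    rintro _ ⟨x, hx, rfl⟩; exact pow_mem hx _)
  haveI hZc : Z.Characteristic := Transfer.char_of_natural fun f => by
    rw [hZdef, map_powerClosure, Subgroup.characteristic_iff_map_eq.1 inferInstance f]
  haveI : Nontrivial (B ⧸ Z) := (QuotientGroup.nontrivial_iff).2 fun h => habel
    ⟨⟨fun a b => Subgroup.mem_center_iff.1 (hZle (h ▸ Subgroup.mem_top b)) a⟩⟩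
  have hcard : Nat.card (B ⧸ Z) < Nat.card B := by
    rw [Subgroup.card_eq_card_quotient_mul_card_subgroup Z]
    exact lt_mul_of_one_lt_right Nat.card_pos ((Subgroup.one_lt_card_iff_ne_bot _).2 hpne)
  obtain ⟨K', hK0, hKc, hKw⟩ := ih _ hcard (B ⧸ Z) (hB.to_quotient Z) rfl
  refine ⟨K'.comap (QuotientGroup.mk' Z), fun h => hpne (le_bot_iff.1 (fun z hz => h ▸ ?_)),
    char_comap_mk hZc hKc, fun G _ _ τ hτ hpu M hM hle hnc => ?_⟩
  · rw [Subgroup.mem_comap, show QuotientGroup.mk' Z z = 1 from (QuotientGroup.eq_one_iff z).2 hz]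
    exact one_mem _
  obtain ⟨P, hP, hH⟩ := cases_hyp hpu
  obtain ⟨F, iF, iFt, n, φ, X⟩ := situation_hyp hpu hM hle
  have hZS : (Z.map τ) ≤ (P : Subgroup G) := hP ▸ Subgroup.map_le_range _ _
  have hcent : Z.map τ ≤ Subgroup.center G := by
    have hYS : Z.map τ ≤ (P : Subgroup G) ⊓ ℭ (P : Subgroup G) := by
      rw [hP, ← map_center hτ]; exact Subgroup.map_mono hZle
    have hZn : (Z.map τ).Normal := by
      refine (LocalEven.PushingUpCases.normal_or P hH _ hYS fun W C₀ hW _ hsplit => ?_).resolve_right fun hn => ?_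
      · rw [hZdef, map_powerClosure]
        refine (Subgroup.closure_le _).2 ?_
        rintro _ ⟨x, hx, rfl⟩
        rw [map_center hτ, ← hP] at hx
        obtain ⟨w, hw, hwS, c, hc, rfl⟩ :=
          hsplit x (CfsgLib.LocalEven.PushingUpClosure.centralizer_inf_le hx)
        have e1 : Commute (w * c) w := hwS _ hx.1
        have e2 : Commute c w := by
          have := ((Commute.refl w).inv_left).mul_left e1
          rwa [inv_mul_cancel_left] at this
        rw [pow_one, SetLike.mem_coe, e2.symm.mul_pow, hW w hw, one_mul]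
        exact pow_mem hc _
      · rw [hP, map_centerThompson hτ, map_centralizer_range hτ, show Subgroup.centralizer
          ((J ⊓ ℭ J : Subgroup B) : Set B) = ⊤ from hT, ← MonoidHom.range_eq_map] at hn
        obtain ⟨s, hs, hsQ⟩ := X.exists_notQ
        exact hsQ (X.setup.maximal _ hn X.setup.isPGroup hs)
    haveI := normal_centralizer hZn
    obtain ⟨s, hs, hsQ⟩ := X.exists_notQ
    have hSC : τ.range ≤ ℭ (Z.map τ) := le_centralizer_comm (hP ▸ hYS.trans inf_le_right)
    intro y hy
    refine mem_center_of_fixed X.setup (le_centralizer_comm hSC hy) fun x hx => ?_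
    exact ((mem_of_coprime X.setup (ℭ (Z.map τ)) (fun h => hsQ (h ⟨hs, hSC hs⟩)) hx) y hy).symm
  haveI : (Z.map τ).Normal := ⟨fun x hx g => by
    rw [Subgroup.mem_center_iff.1 (hcent hx) g, mul_inv_cancel_right]; exact hx⟩
  obtain ⟨hpu', hM'⟩ := situation_quotient hpu hM hle (Subgroup.map_le_range _ _) hcent
  let τ' : B ⧸ Z →* G ⧸ Z.map τ := QuotientGroup.map Z (Z.map τ) τ (Subgroup.le_comap_map τ Z)
  have hinj : Function.Injective τ' := by
    rw [← MonoidHom.ker_eq_bot_iff, eq_bot_iff]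
    intro x hx
    obtain ⟨b, rfl⟩ := QuotientGroup.mk'_surjective Z x
    obtain ⟨z, hz, hze⟩ : τ b ∈ Z.map τ := (QuotientGroup.eq_one_iff _).1 hx
    rw [← hτ hze]
    exact (QuotientGroup.eq_one_iff z).2 hz
  have hrange : τ'.range = τ.range.map (QuotientGroup.mk' (Z.map τ)) := by
    ext y
    constructor
    · rintro ⟨x, rfl⟩
      obtain ⟨b, rfl⟩ := QuotientGroup.mk'_surjective Z x
      exact ⟨τ b, ⟨b, rfl⟩, rfl⟩
    · rintro ⟨_, ⟨b, rfl⟩, rfl⟩
      exact ⟨QuotientGroup.mk' Z b, rfl⟩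
  rw [← hrange] at hpu'
  have hnc' : ¬ (Subgroup.center (B ⧸ Z)).map τ' ≤ Subgroup.center (G ⧸ Z.map τ) := by
    intro h
    apply hnc
    rintro _ ⟨z, hz, rfl⟩
    have hzc : QuotientGroup.mk' Z z ∈ Subgroup.center (B ⧸ Z) := Subgroup.mem_center_iff.2 fun g => by
      obtain ⟨b, rfl⟩ := QuotientGroup.mk'_surjective Z g
      rw [← map_mul, ← map_mul, Subgroup.mem_center_iff.1 hz b]
    have h1 : QuotientGroup.mk' (Z.map τ) (τ z) ∈ Subgroup.center (G ⧸ Z.map τ) := h ⟨_, hzc, rfl⟩
    refine mem_center_of_fixed X.setup (((map_center hτ).le ⟨z, hz, rfl⟩).2) fun x hx => ?_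
    set c := x * τ z * x⁻¹ * (τ z)⁻¹ with hc
    have hcZ : c ∈ Z.map τ := by
      rw [← QuotientGroup.ker_mk' (Z.map τ), MonoidHom.mem_ker, hc, map_mul, map_mul, map_mul, map_inv, map_inv,
        Subgroup.mem_center_iff.1 h1, mul_inv_cancel_right, mul_inv_cancel]
    obtain ⟨k, hk⟩ := (X.setup.isPGroup.to_le (Subgroup.map_le_range _ _)) ⟨c, hcZ⟩
    have h2 := fixed_of_step (u := τ z) (c := c) (by rw [hc]; group)
      (Subgroup.mem_center_iff.1 (hcent hcZ) x) hx ⟨k, by simpa using congrArg Subtype.val hk⟩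
    rw [hc, mul_inv_eq_one, mul_inv_eq_iff_eq_mul] at h2
    exact h2
  have hle' : τ'.range ≤ M.map (QuotientGroup.mk' (Z.map τ)) := hrange ▸ Subgroup.map_mono hle
  rcases hKw _ τ' hinj hpu' _ hM' hle' hnc' with hg | hn
  · left
    rw [hrange, ← hP] at hg
    rw [← hP]
    exact good_of_quotient P (hP ▸ hle) hZS hcent hg
  · right
    have e1 : (K'.comap (QuotientGroup.mk' Z)).map τ = (K'.map τ').comap (QuotientGroup.mk' (Z.map τ)) := by
      ext g
      constructor
      · rintro ⟨b, hb, rfl⟩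
        exact ⟨QuotientGroup.mk' Z b, hb, rfl⟩
      · rintro ⟨x, hx, hxg⟩
        obtain ⟨b, rfl⟩ := QuotientGroup.mk'_surjective Z x
        obtain ⟨z, hz, hze⟩ : (τ b)⁻¹ * g ∈ Z.map τ := QuotientGroup.eq.1 hxg
        refine ⟨b * z, ?_, by rw [map_mul, hze, mul_inv_cancel_left]⟩
        show QuotientGroup.mk' Z (b * z) ∈ K'
        rwa [map_mul, show QuotientGroup.mk' Z z = 1 from (QuotientGroup.eq_one_iff z).2 hz, mul_one]
    rw [e1]
    infer_instance

end CfsgLib.PushingUpSingle
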