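import Cfsg.Agent.Lib.PushingUpSingle.BaumannPart
import Cfsg.Agent.Lib.CharTransfer.Parabolic

/-!
A rank one subgroup above `C_S(Ω₁(Z(J(S))))` as a pushing-up situation.
-/

set_option autoImplicit false
set_option linter.unusedSectionVars false

namespace CfsgLib.PushingUpSingle.Block

open Cfsg Matrix CfsgLib.Classical CfsgLib.CharTransfer CfsgLib.LocalEven.MovesFixed CfsgLib.LocalEven.SylowIn
open scoped MatrixGroups commutatorElement Pointwise

universe u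

variable {X : Type u} [Group X] [Finite X] {p : ℕ} [Fact p.Prime]
variable {S : Sylow p X} {M : Subgroup X} [(Vp p X).Normal] {r : ℕ} {F : Fin r → Type} [∀ i, Field (F i)]
  [∀ i, CharP (F i) p] [∀ i, Fintype (F i)] (d : Data S M F)

namespace Data

theorem exists_weyl : ∃ (x : X) (hx : x ∈ thompsonSubgroup p X),
    ∀ i, d.Φ.ρ i ⟨x, Subgroup.mem_sup_left hx⟩ = wSL (F i) := by
  haveI := Cp_normal (p := p) (G := X)
  obtain ⟨l, hl⟩ := d.Φ.ρ_surj fun i => wSL (F i)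
  have hl2 : (l : X) ∈ ((thompsonSubgroup p X ⊔ Cp p X : Subgroup X) : Set X) := l.2
  rw [Subgroup.mul_normal] at hl2
  obtain ⟨x, hx, c, hc, he⟩ := hl2
  refine ⟨x, hx, fun i => ?_⟩
  have e : l = ⟨x, Subgroup.mem_sup_left hx⟩ * ⟨c, Subgroup.mem_sup_right hc⟩ := Subtype.ext he.symm
  have h1 := hl i
  rw [e, map_mul, (d.mem_C_iff ⟨c, Subgroup.mem_sup_right hc⟩).mp hc i, mul_one] at h1
  exact h1

/-- The part of `Z` fixed by the two conjugates. -/
abbrev C0 (S : Sylow p X) (x : X) : Subgroup X := Z S ⊓ (Z S).map (MulAut.conj x).toMonoidHom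

/-- The subgroup generated by the two conjugates of `B`. -/
abbrev Pall (S : Sylow p X) (x : X) : Subgroup X := B S ⊔ (B S).map (MulAut.conj x).toMonoidHom

theorem Z_dec {x : X} (hx : x ∈ thompsonSubgroup p X) (hw : ∀ i, d.Φ.ρ i ⟨x, Subgroup.mem_sup_left hx⟩ = wSL (F i))
    {z : X} (hz : z ∈ Z S) : ∃ v : Vp p X, (∀ i, d.Φ.co i v 1 = 0) ∧ z * (v : X)⁻¹ ∈ C0 S x := by
  have hv' := d.comm_V1 (inv_mem hx) (d.Z_le_V1 hz)
  rw [inv_inv] at hv'
  set v' : Vp p X := ⟨x⁻¹ * z * x * z⁻¹, hv'⟩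
  obtain ⟨dd, hdd⟩ := d.Φ.Ψ_surj fun i => ![0, - d.Φ.co i v' 1]
  set e := cjv (Vp p X) x dd
  have he : ∀ i, d.Φ.co i e = ![- d.Φ.co i v' 1, 0] := fun i => by
    have h1 := d.Φ.co_cjv i ⟨x, Subgroup.mem_sup_left hx⟩ dd
    rw [hw i, show d.Φ.co i dd = _ from hdd i] at h1
    rw [show d.Φ.co i e = _ from h1]
    ext a; fin_cases a <;> simp [wSL, Matrix.mulVec, dotProduct, Fin.sum_univ_two]
  have heZ : (e : X) ∈ Z S := (d.mem_Z_of_vp e).mpr fun i => by rw [he i]; simp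
  refine ⟨e⁻¹, fun i => by rw [Frame.co_inv, he i]; simp, ?_⟩
  rw [Subgroup.coe_inv, inv_inv]
  refine ⟨mul_mem hz heZ, ⟨x⁻¹ * (z * e) * x, ?_, by simp [mul_assoc]⟩⟩
  have h2 : ((v' * dd : Vp p X) : X) ∈ Z S := (d.mem_Z_of_vp _).mpr fun i => by
    rw [Frame.co_mul, show d.Φ.co i dd = _ from hdd i]; simp
  have hcomm : z * (dd : X) = dd * z := Fusion.Thompson.mul_comm_of_isEA (omc_isEA _) (d.Z_le_V1 hz) (d.V_le_V1 dd.2)
  have e1 : x⁻¹ * (z * (e : X)) * x = ((v' * dd : Vp p X) : X) * z := by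
    show x⁻¹ * (z * (x * dd * x⁻¹)) * x = x⁻¹ * z * x * z⁻¹ * dd * z
    calc _ = x⁻¹ * z * x * dd := by group
      _ = x⁻¹ * z * x * z⁻¹ * (z * dd) := by group
      _ = x⁻¹ * z * x * z⁻¹ * (dd * z) := by rw [hcomm]
      _ = _ := by group
  rw [e1]
  exact mul_mem h2 hz

include d in
theorem Pall_le_L {x : X} : Pall S x ≤ Ctx.Lp p X := by
  haveI := Ctx.Lp_normal (p := p) (X := X)
  refine sup_le (d.B_le_L.trans inf_le_right) ?_
  rintro _ ⟨b, hb, rfl⟩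
  exact (inferInstance : (Ctx.Lp p X).Normal).conj_mem b (d.B_le_L hb).2 x

theorem Pall_comm {x : X} {g a : X} (hg : g ∈ Pall S x) (ha : a ∈ C0 S x) : g * a = a * g := by
  have h : Pall S x ≤ Subgroup.centralizer {a} := by
    refine sup_le (fun b hb => Subgroup.mem_centralizer_singleton_iff.mpr ((mem_B_iff.mp hb).2 a ha.1).symm) ?_
    rintro _ ⟨b, hb, rfl⟩
    obtain ⟨a', ha', rfl⟩ := ha.2
    refine Subgroup.mem_centralizer_singleton_iff.mpr ?_
    show MulAut.conj x b * MulAut.conj x a' = MulAut.conj x a' * MulAut.conj x b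
    rw [← map_mul, ← map_mul, (mem_B_iff.mp hb).2 a' ha']
  exact Subgroup.mem_centralizer_singleton_iff.mp (h hg)

theorem exists_Pall {x : X} (hx : x ∈ Ctx.Lp p X) (hw : ∀ i, d.Φ.ρ i ⟨x, hx⟩ = wSL (F i)) (m : ∀ i, SL(2, F i)) :
    ∃ (g : Ctx.Lp p X), (g : X) ∈ Pall S x ∧ ∀ i, d.Φ.ρ i g = m i := by
  classical
  let π : Ctx.Lp p X →* ∀ i, SL(2, F i) := MonoidHom.pi fun i => d.Φ.ρ i
  set H := ((Pall S x).subgroupOf (Ctx.Lp p X)).map π with hH
  have h0 : ∀ i (c : F i), Pi.mulSingle i (uSL (Multiplicative.ofAdd c)) ∈ H ∧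
      Pi.mulSingle i (wSL (F i) * uSL (Multiplicative.ofAdd c) * (wSL (F i))⁻¹) ∈ H := by
    intro i c
    obtain ⟨j, hj, he⟩ := d.exists_thompson (Pi.single i c)
    have hjB := thompsonS_le_B hj
    have hπ : π ⟨j, (thompsonS_le hj).2⟩ = Pi.mulSingle i (uSL (Multiplicative.ofAdd c)) := funext fun k => by
      show d.Φ.ρ k ⟨j, (thompsonS_le hj).2⟩ = _
      rw [d.rho_eq_uSL ⟨j, thompsonS_le hj⟩ k, he]
      rcases eq_or_ne k i with rfl | hk
      · rw [Pi.single_eq_same, Pi.mulSingle_eq_same]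
      · rw [Pi.single_eq_of_ne hk, Pi.mulSingle_eq_of_ne hk, ofAdd_zero, map_one]
    refine ⟨⟨⟨j, (thompsonS_le hj).2⟩, Subgroup.mem_sup_left hjB, hπ⟩,
      ⟨⟨x, hx⟩ * ⟨j, (thompsonS_le hj).2⟩ * ⟨x, hx⟩⁻¹, Subgroup.mem_sup_right ⟨j, hjB, rfl⟩, ?_⟩⟩
    rw [map_mul, map_mul, map_inv, hπ]
    funext k
    show d.Φ.ρ k ⟨x, hx⟩ * (Pi.mulSingle i (uSL (Multiplicative.ofAdd c)) : ∀ i, SL(2, F i)) k * (d.Φ.ρ k ⟨x, hx⟩)⁻¹ = _
    rw [hw k]
    rcases eq_or_ne k i with rfl | hk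
    · rw [Pi.mulSingle_eq_same, Pi.mulSingle_eq_same]
    · rw [Pi.mulSingle_eq_of_ne hk, Pi.mulSingle_eq_of_ne hk, mul_one, mul_inv_cancel]
  have h1 : ∀ i (g : SL(2, F i)), Pi.mulSingle i g ∈ H := by
    intro i g
    have e : H.comap (MonoidHom.mulSingle (fun i => SL(2, F i)) i) = ⊤ :=
      sl2_transvections_generate _ (fun c => (h0 i c).1) fun c => by
        rw [Subgroup.mem_comap, wSL_conj]
        exact (h0 i (-c)).2
    have h2 : g ∈ H.comap (MonoidHom.mulSingle (fun i => SL(2, F i)) i) := by rw [e]; trivial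
    exact h2
  suffices hm : ∀ s : Finset (Fin r), (fun i => if i ∈ s then m i else 1) ∈ H by
    obtain ⟨g, hg, he⟩ := hm Finset.univ
    exact ⟨g, hg, fun i => by
      rw [show d.Φ.ρ i g = _ from congrFun he i]
      simp⟩
  intro s
  induction s using Finset.induction with
  | empty => simp only [Finset.notMem_empty, if_false]; exact one_mem H
  | insert a s has ih =>
    have e : (fun i => if i ∈ insert a s then m i else 1) = Pi.mulSingle a (m a) * fun i => if i ∈ s then m i else 1 := by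
      funext i
      rcases eq_or_ne i a with rfl | hia
      · simp [has]
      · simp [hia, Pi.mulSingle_eq_of_ne hia]
    rw [e]
    exact mul_mem (h1 a (m a)) ih

theorem Pall_not_le {x : X} (hx : x ∈ Ctx.Lp p X) (hw : ∀ i, d.Φ.ρ i ⟨x, hx⟩ = wSL (F i)) : ¬ Pall S x ≤ M := by
  intro hle
  refine d.ctx.ne (eq_top_iff.mpr ?_)
  rw [← d.sup_LS]
  refine sup_le (fun l hl => ?_) d.ctx.le_M
  obtain ⟨g, hg, he⟩ := d.exists_Pall hx hw fun i => d.Φ.ρ i ⟨l, hl⟩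
  have hc : ((g⁻¹ * ⟨l, hl⟩ : Ctx.Lp p X) : X) ∈ Cp p X :=
    (d.mem_C_iff _).mpr fun i => by rw [map_mul, map_inv, he i, inv_mul_cancel]
  have h1 := mul_mem (hle hg) (d.ctx.C_le hc)
  simpa using h1

/-- An element of `L` acting upper-triangularly lies in `M`. -/
theorem mem_M_of_upper {h : X} (hh : h ∈ Ctx.Lp p X) (hup : ∀ i, (d.Φ.ρ i ⟨h, hh⟩).1 1 0 = 0) : h ∈ M := by
  classical
  haveI := Ctx.Lp_normal (p := p) (X := X)
  haveI := Cp_normal (p := p) (G := X)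
  set H := ((S : Subgroup X) ⊓ Ctx.Lp p X) ⊔ Cp p X
  have hHL : H ≤ Ctx.Lp p X := sup_le inf_le_right le_sup_right
  have hH1 : ∀ l : Ctx.Lp p X, (l : X) ∈ H → ∀ i, d.Φ.ρ i l ∈ unipSL (F i) := by
    intro l hl i
    have h2 : H ≤ ((unipSL (F i)).comap (d.Φ.ρ i)).map (Ctx.Lp p X).subtype :=
      sup_le (fun s hs => ⟨⟨s, hs.2⟩, d.unip.unip ⟨s, hs.2⟩ hs.1 i, rfl⟩)
        fun c hc => ⟨⟨c, Subgroup.mem_sup_right hc⟩, by
          rw [SetLike.mem_coe, Subgroup.mem_comap, (d.mem_C_iff ⟨c, Subgroup.mem_sup_right hc⟩).mp hc i]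
          exact one_mem _, rfl⟩
    obtain ⟨l', hl', e⟩ := h2 hl
    rwa [show l = l' from Subtype.ext e.symm]
  have hH2 : ∀ l : Ctx.Lp p X, (∀ i, d.Φ.ρ i l ∈ unipSL (F i)) → (l : X) ∈ H := by
    intro l hl
    choose c hc using fun i => mem_unipSL_iff.mp (hl i)
    obtain ⟨s, hsS, hs⟩ := d.unip.lift c
    have hmem : ((s⁻¹ * l : Ctx.Lp p X) : X) ∈ Cp p X :=
      (d.mem_C_iff _).mpr fun i => by rw [map_mul, map_inv, hs i, hc i, inv_mul_cancel]
    have h1 := mul_mem (Subgroup.mem_sup_left ⟨hsS, s.2⟩ : (s : X) ∈ H) (Subgroup.mem_sup_right hmem)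
    simpa using h1
  have hN : h ∈ Subgroup.normalizer (H : Set X) := by
    have hle : H.map (MulAut.conj h).toMonoidHom ≤ H := by
      rintro _ ⟨y, hy, rfl⟩
      refine hH2 (⟨h, hh⟩ * ⟨y, hHL hy⟩ * ⟨h, hh⟩⁻¹) fun i => ?_
      obtain ⟨a, ha⟩ := mem_unipSL_iff.mp (hH1 ⟨y, hHL hy⟩ hy i)
      rw [map_mul, map_mul, map_inv, ha]
      set g := d.Φ.ρ i ⟨h, hh⟩
      refine mem_unipSL_iff.mpr ⟨g.1 0 0 * g.1 0 0 * a, ?_⟩
      rw [mul_inv_eq_iff_eq_mul]
      apply sl_ext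
      have hdet := g.2
      rw [Matrix.det_fin_two, show g.1 1 0 = 0 from hup i, mul_zero, sub_zero] at hdet
      rw [sl_coe_mul, sl_coe_mul, uSL_coe, uSL_coe]
      ext u v
      fin_cases u <;> fin_cases v <;> simp [Matrix.mul_apply, Fin.sum_univ_two, show g.1 1 0 = 0 from hup i]
      linear_combination (-(g.1 0 0 * a)) * hdet
    exact map_conj_eq_iff.mp (Subgroup.eq_of_le_of_card_ge hle
      (by rw [Subgroup.card_map_of_injective (MulAut.conj h).injective]))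
  refine d.ctx.top _ ?_ (fun e => ?_) hN
  · intro s hs
    refine Subgroup.mem_normalizer_iff.mpr ?_
    have hfwd : ∀ s ∈ (S : Subgroup X), ∀ y ∈ H, s * y * s⁻¹ ∈ H := by
      intro s hs y hy
      have h2 : H ≤ H.comap (MulAut.conj s).toMonoidHom := sup_le
        (fun t ht => Subgroup.mem_sup_left ⟨(S : Subgroup X).mul_mem ((S : Subgroup X).mul_mem hs ht.1) ((S : Subgroup X).inv_mem hs),
          (inferInstance : (Ctx.Lp p X).Normal).conj_mem t ht.2 s⟩)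
        fun c hc => Subgroup.mem_sup_right ((inferInstance : (Cp p X).Normal).conj_mem c hc s)
      exact h2 hy
    exact fun y => ⟨hfwd s hs y, fun hy => by simpa [mul_assoc] using hfwd s⁻¹ (inv_mem hs) _ hy⟩
  · haveI : H.Normal := Subgroup.normalizer_eq_top_iff.mp e
    obtain ⟨i⟩ := d.r_pos
    obtain ⟨s, hsS, hs⟩ := d.unip.lift fun _ => 1
    obtain ⟨w, hw⟩ := d.Φ.ρ_surj fun i => wSL (F i)
    have h1 := hH1 (w * s * w⁻¹) ((inferInstance : H.Normal).conj_mem s (Subgroup.mem_sup_left ⟨hsS, s.2⟩) w) i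
    rw [map_mul, map_mul, map_inv, hw i, hs i] at h1
    have h2 := lower_eq_zero h1
    simp [wSL] at h2

include d in
/-- The pushing-up situation. -/
theorem exists_parabolic : ∃ (x : X) (P1 : Subgroup X), P1 ≤ Pall S x ∧ B S ≤ P1 ∧ ¬ P1 ≤ M ∧
    IsPushingUpSituation p ((B S).subgroupOf P1) ∧ IsCoatom (M.subgroupOf P1) := by
  classical
  obtain ⟨x, hx, hw⟩ := d.exists_weyl
  have hxL : x ∈ Ctx.Lp p X := Subgroup.mem_sup_left hx
  haveI := Ctx.Lp_normal (p := p) (X := X)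
  haveI := Cp_normal (p := p) (G := X)
  haveI := B0_char (S := S)
  haveI := d.O_normal
  obtain ⟨P1, ⟨hP1le, hBP1, hP1M⟩, hmin⟩ := (Finite.to_wellFoundedLT).wf.has_min
    {H : Subgroup X | H ≤ Pall S x ∧ B S ≤ H ∧ ¬ H ≤ M} ⟨Pall S x, le_rfl, le_sup_left, d.Pall_not_le hxL hw⟩
  have hsmall : ∀ H : Subgroup X, B S ≤ H → H < P1 → H ≤ M := fun H hBH hlt => by
    by_contra hH
    exact hmin H ⟨hlt.le.trans hP1le, hBH, hH⟩ hlt
  have hP1L : P1 ≤ Ctx.Lp p X := hP1le.trans d.Pall_le_L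
  let ι : P1 →* Ctx.Lp p X := Subgroup.inclusion hP1L
  obtain ⟨i, hi⟩ : ∃ i, ∃ g : P1, (d.Φ.ρ i (ι g)).1 1 0 ≠ 0 := by
    by_contra hno
    push Not at hno
    exact hP1M fun g hg => d.mem_M_of_upper (hP1L hg) fun i => hno i ⟨g, hg⟩
  obtain ⟨g, hg⟩ := hi
  have hunip : ∀ k, ∀ c : F k, ∃ b : P1, (b : X) ∈ B S ∧ d.Φ.ρ k (ι b) = uSL (Multiplicative.ofAdd c) := by
    intro k c
    obtain ⟨j, hj, he⟩ := d.exists_thompson (Pi.single k c)
    refine ⟨⟨j, hBP1 (thompsonS_le_B hj)⟩, thompsonS_le_B hj, ?_⟩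
    show d.Φ.ρ k ⟨j, (thompsonS_le hj).2⟩ = _
    rw [d.rho_eq_uSL ⟨j, thompsonS_le hj⟩ k, he, Pi.single_eq_same]
  set f1 : P1 →* SL(2, F i) := (d.Φ.ρ i).comp ι
  have hf1 : f1.range = ⊤ := by
    set U := unipSLSylow (F := F i) p
    have hUle : (U : Subgroup SL(2, F i)) ≤ f1.range := by
      rintro _ ⟨c, rfl⟩
      obtain ⟨b, -, he⟩ := hunip i c.toAdd
      exact ⟨b, he⟩
    have hne : U ≠ (f1 g) • U := by
      intro e
      apply hg
      refine lower_eq_zero ?_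
      have h1 : f1 g * uSL (Multiplicative.ofAdd (1 : F i)) * (f1 g)⁻¹ ∈ ((f1 g • U : Sylow p _) : Subgroup SL(2, F i)) :=
        ⟨_, ⟨_, rfl⟩, rfl⟩
      rw [← e] at h1
      exact h1
    refine eq_top_iff.mpr ((sylowSL2_sup_eq_top U _ hne).symm.le.trans (sup_le hUle ?_))
    rintro _ ⟨a, ha, rfl⟩
    exact mul_mem (mul_mem ⟨g, rfl⟩ (hUle ha)) (inv_mem ⟨g, rfl⟩)
  obtain ⟨P, hP⟩ : ∃ P : Sylow p P1, (P : Subgroup P1) = (B S).subgroupOf P1 := by
    have hBp : IsPGroup p (B S) := S.2.to_le (Subgroup.map_subtype_le _)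
    obtain ⟨P, hP⟩ := (hBp.comap_of_injective P1.subtype P1.subtype_injective).exists_le_sylow
    refine ⟨P, le_antisymm (fun y hy => ?_) hP⟩
    show (y : X) ∈ B S
    have hPu : ∀ k, ∀ a ∈ (P : Subgroup P1), d.Φ.ρ k (ι a) ∈ unipSL (F k) := by
      intro k a ha
      have hle : (unipSLSylow (F := F k) p : Subgroup SL(2, F k)) ≤ (P : Subgroup P1).map ((d.Φ.ρ k).comp ι) := by
        rintro _ ⟨c, rfl⟩
        obtain ⟨b, hb, he⟩ := hunip k c.toAdd
        exact ⟨b, hP hb, he⟩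
      have h3 := (unipSLSylow (F := F k) p).is_maximal' (P.2.map _) hle
      have h4 : d.Φ.ρ k (ι a) ∈ (P : Subgroup P1).map ((d.Φ.ρ k).comp ι) := ⟨a, ha, rfl⟩
      rw [h3] at h4
      exact h4
    choose c hc using fun k => mem_unipSL_iff.mp (hPu k y hy)
    obtain ⟨j, hj, he⟩ := d.exists_thompson c
    set jj : P1 := ⟨j, hBP1 (thompsonS_le_B hj)⟩
    have hcC : ((ι (jj⁻¹ * y) : Ctx.Lp p X) : X) ∈ Cp p X := (d.mem_C_iff _).mpr fun k => by
      rw [map_mul, map_mul, map_inv, map_inv, show d.Φ.ρ k (ι y) = _ from hc k,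
        show d.Φ.ρ k (ι jj) = _ from (d.rho_eq_uSL ⟨j, thompsonS_le hj⟩ k).trans (by rw [he]), inv_mul_cancel]
    haveI := LocalEven.SylowIn.pCore_normal X p
    have hQ : ((jj⁻¹ * y : P1) : X) ∈ pCore p X := by
      refine le_of_sylow_inf_le S d.sylow_inf_C_le (P := (P : Subgroup P1).map P1.subtype ⊓ Cp p X)
        ((P.2.map P1.subtype).to_le inf_le_left) inf_le_right ⟨⟨jj⁻¹ * y, ?_, rfl⟩, hcC⟩
      exact mul_mem (inv_mem (hP (thompsonS_le_B hj))) hy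
    have hyS : (y : X) ∈ (S : Subgroup X) := by
      have h5 := mul_mem (Fusion.Thompson.thompsonSubgroupOf_le _ hj : j ∈ (S : Subgroup X)) (Solvable.Cores.pCore_le_sylow S hQ)
      simpa [jj] using h5
    refine mem_B_iff.mpr ⟨hyS, fun w hw' => ?_⟩
    obtain ⟨v, hv, hA⟩ := d.Z_dec hx hw hw'
    have h6 := Pall_comm (hP1le y.2) hA
    have h7 := (d.second_eq_zero_iff v).mp hv y ⟨hyS, hP1L y.2⟩
    calc w * (y : X) = (w * (v : X)⁻¹) * ((v : X) * y) := by group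
      _ = (w * (v : X)⁻¹) * ((y : X) * v) := by rw [h7]
      _ = (w * (v : X)⁻¹ * y) * v := by group
      _ = ((y : X) * (w * (v : X)⁻¹)) * v := by rw [h6]
      _ = _ := by group
  have hOle : (O S).subgroupOf P1 ≤ pCore p P1 :=
    LocalEven.SylowIn.le_pCore ((Solvable.Cores.isPGroup_pCore p).to_le (inf_le_left : O S ≤ pCore p X) |>.comap_of_injective
      P1.subtype P1.subtype_injective)
  have hcoreB : ∀ k ∈ pCore p P1, (k : X) ∈ B S := fun k hk => by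
    have h1 := Solvable.Cores.pCore_le_sylow P hk
    rw [hP] at h1
    exact h1
  have hcoreS : ∀ k ∈ pCore p P1, (k : X) ∈ M := fun k hk => d.ctx.le_M (mem_B_iff.mp (hcoreB k hk)).1
  have hcon : Subgroup.centralizer (pCore p P1 : Set P1) ≤ pCore p P1 := by
    intro a ha
    apply hOle
    show (a : X) ∈ O S
    refine d.centralizer_O_le (Subgroup.mem_centralizer_iff.mpr fun o ho => ?_)
    exact congrArg Subtype.val (Subgroup.mem_centralizer_iff.mp ha ⟨o, hBP1 (O_le_B ho)⟩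
      (hOle (show (⟨o, hBP1 (O_le_B ho)⟩ : P1) ∈ (O S).subgroupOf P1 from ho)))
  have hE2 : ∃! M' : Subgroup P1, IsCoatom M' ∧ (P : Subgroup P1) ≤ M' := by
    have hne : M.subgroupOf P1 ≠ ⊤ := fun e => hP1M (Subgroup.subgroupOf_eq_top.mp e)
    have hbig : ∀ H : Subgroup P1, (P : Subgroup P1) ≤ H → H ≠ ⊤ → H ≤ M.subgroupOf P1 := by
      intro H hPH hH y hy
      refine hsmall (H.map P1.subtype) (fun b hb => ⟨⟨b, hBP1 hb⟩, hPH (by rw [hP]; exact hb), rfl⟩) ?_ ⟨y, hy, rfl⟩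
      refine lt_of_le_of_ne (Subgroup.map_subtype_le _) fun e => hH (eq_top_iff.mpr fun a _ => ?_)
      have h1 : (a : X) ∈ H.map P1.subtype := by rw [e]; exact a.2
      obtain ⟨a', ha', hea⟩ := h1
      rwa [← (show a' = a from Subtype.ext hea)]
    have hPM : (P : Subgroup P1) ≤ M.subgroupOf P1 := by
      rw [hP]
      exact fun b hb => d.ctx.le_M (mem_B_iff.mp hb).1
    refine ⟨M.subgroupOf P1, ⟨⟨hne, fun N hN => by_contra fun hN' => hN.not_ge (hbig N (hPM.trans hN.le) hN')⟩, hPM⟩, ?_⟩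
    rintro N ⟨hN1, hN2⟩
    exact (hN1.le_iff.mp (hbig N hN2 hN1.1)).resolve_left hne |>.symm
  have hE3 : IsCoatom (M.subgroupOf P1) := by
    obtain ⟨M', ⟨hM1, hM2⟩, huniq⟩ := hE2
    have hne : M.subgroupOf P1 ≠ ⊤ := fun e => hP1M (Subgroup.subgroupOf_eq_top.mp e)
    obtain ⟨M'', hc, hle⟩ := (eq_top_or_exists_le_coatom (M.subgroupOf P1)).resolve_left hne
    have hPM : (P : Subgroup P1) ≤ M.subgroupOf P1 := by
      rw [hP]
      exact fun b hb => d.ctx.le_M (mem_B_iff.mp hb).1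
    rw [show M.subgroupOf P1 = M'' from le_antisymm hle fun y hy => ?_]
    · exact hc
    · refine hsmall (M''.map P1.subtype) (fun b hb => ⟨⟨b, hBP1 hb⟩, hle (hPM (by rw [hP]; exact hb)), rfl⟩) ?_ ⟨y, hy, rfl⟩
      refine lt_of_le_of_ne (Subgroup.map_subtype_le _) fun e => hc.1 (eq_top_iff.mpr fun a _ => ?_)
      obtain ⟨a', ha', hea⟩ : (a : X) ∈ M''.map P1.subtype := by rw [e]; exact a.2
      rwa [← (show a' = a from Subtype.ext hea)]
  refine ⟨x, P1, hP1le, hBP1, hP1M, ⟨?_, ⟨P, hP⟩, hcon, hP ▸ hE2, ?_⟩, hE3⟩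
  · intro e
    exact hE3.1 (e.trans (le_bot_iff.mp (e ▸ le_top : M.subgroupOf P1 ≤ ⊥)).symm ▸ rfl)
  · set ψ : P1 →* Matrix.ProjectiveSpecialLinearGroup (Fin 2) (F i) := (QuotientGroup.mk' _).comp f1 with hψ
    have hsurj : Function.Surjective ψ :=
      (QuotientGroup.mk'_surjective _).comp (MonoidHom.range_eq_top.mp hf1)
    obtain ⟨n, -, hn⟩ := FiniteField.card (F i) p
    exact ⟨ψ.ker, inferInstance, F i, inferInstance, inferInstance, n, hn,
      ⟨QuotientGroup.quotientKerEquivOfSurjective ψ hsurj⟩⟩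

end Data

end CfsgLib.PushingUpSingle.Block
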