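import Cfsg.Agent.Lib.CharTransfer.Setup

/-!
The minimal configuration for two given subgroups: as in `CharTransfer.Setup`, without the hypothesis on all
characteristic subgroups.
-/

set_option autoImplicit false
set_option linter.unusedSectionVars false

namespace CfsgLib.PushingUpSingle.Block

open Cfsg Matrix CfsgLib.Classical CfsgLib.CharTransfer CfsgLib.LocalEven.MovesFixed CfsgLib.LocalEven.SylowIn
open scoped MatrixGroups commutatorElement Pointwise

universe u

variable {X : Type u} [Group X] [Finite X] {p : ℕ} [Fact p.Prime]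

/-- `X` is constrained, all overgroups of `S` lie in `M`, and `S`, `J(S)` and the centralizer of `Ω₁(Z(S))` are small. -/
structure Ctx (S : Sylow p X) (M : Subgroup X) : Prop where
  hp : p ≠ 2
  con : Subgroup.centralizer (pCore p X : Set X) ≤ pCore p X
  ne : M ≠ ⊤
  top : ∀ H : Subgroup X, (S : Subgroup X) ≤ H → H ≠ ⊤ → H ≤ M
  notNormal : ¬ (S : Subgroup X).Normal
  centOmega : Subgroup.centralizer (omegaOneCenter p (S : Subgroup X) : Set X) ≠ ⊤
  thompson : ¬ (thompsonSubgroupOf p (S : Subgroup X)).Normal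

namespace Ctx

variable {S : Sylow p X} {M : Subgroup X} (h : Ctx S M)

theorem odd (h : Ctx S M) : Odd p := (Fact.out : p.Prime).odd_of_ne_two h.hp

theorem sylow_ne_bot (h : Ctx S M) : (S : Subgroup X) ≠ ⊥ := by
  intro e
  have hQ : pCore p X = ⊥ := le_bot_iff.mp (e ▸ Solvable.Cores.pCore_le_sylow S)
  have htop : (⊤ : Subgroup X) ≤ ⊥ := by
    have h1 := h.con
    rw [hQ] at h1
    exact le_trans (fun x _ => by simp [Subgroup.mem_centralizer_iff]) h1
  haveI : Subsingleton X := subsingleton_of_forall_eq 1 fun x => Subgroup.mem_bot.mp (htop trivial)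
  exact h.ne (Subsingleton.elim _ _)

theorem not_normal (h : Ctx S M) : ¬ (S : Subgroup X).Normal := h.notNormal

theorem le_M (h : Ctx S M) : (S : Subgroup X) ≤ M := by
  refine h.top _ le_rfl fun e => h.not_normal ?_
  rw [e]; infer_instance

theorem eq_top_or_le (h : Ctx S M) {H : Subgroup X} (hS : (S : Subgroup X) ≤ H) : H = ⊤ ∨ H ≤ M :=
  (eq_or_ne H ⊤).imp id (h.top H hS)

theorem coatom (h : Ctx S M) : IsCoatom M :=
  ⟨h.ne, fun N hN => by_contra fun hN' => hN.not_ge (h.top N (h.le_M.trans hN.le) hN')⟩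

theorem isPMinimal (h : Ctx S M) : IsPMinimal p X := by
  intro P
  obtain ⟨g, hg⟩ := MulAction.exists_smul_eq X S P
  have hP : (P : Subgroup X) = MulAut.conj g • (S : Subgroup X) := by rw [← hg, Sylow.coe_subgroup_smul]
  refine ⟨fun hn => h.not_normal ?_, MulAut.conj g • M, ⟨?_, ?_⟩, ?_⟩
  · haveI := hn
    have e := Sylow.unique_of_normal P hn
    rw [show S = P from (e.uniq S).trans (e.uniq P).symm]; exact hn
  · exact ((MulAut.conj g).mapSubgroup.isCoatom_iff M).mpr h.coatom
  · rw [hP, Subgroup.pointwise_smul_le_pointwise_smul_iff]; exact h.le_M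
  · rintro N ⟨hN1, hN2⟩
    rw [hP, Subgroup.pointwise_smul_subset_iff] at hN2
    have hN3 : IsCoatom ((MulAut.conj g)⁻¹ • N) := ((MulAut.conj g)⁻¹.mapSubgroup.isCoatom_iff N).mpr hN1
    have e := (hN3.le_iff.mp (h.top _ hN2 hN3.1))
    rcases e with e | e
    · exact absurd e h.ne
    · rw [e, smul_inv_smul]

theorem omcS_eq : omegaOneCenter p (S : Subgroup X) =
    (omegaOne p (Subgroup.center ↥(S : Subgroup X))).map (S : Subgroup X).subtype := by
  rw [omegaOne_map_injective p _ (S : Subgroup X).subtype_injective, omegaOneCenter]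
  congr 1
  ext x
  constructor
  · rintro ⟨hx, hc⟩
    exact ⟨⟨x, hx⟩, Subgroup.mem_center_iff.mpr fun y => Subtype.ext (Subgroup.mem_centralizer_iff.mp hc y y.2), rfl⟩
  · rintro ⟨y, hy, rfl⟩
    exact ⟨y.2, Subgroup.mem_centralizer_iff.mpr fun z hz =>
      congrArg Subtype.val (Subgroup.mem_center_iff.mp hy ⟨z, hz⟩)⟩

theorem omcS_ne_bot (h : Ctx S M) : omegaOne p (Subgroup.center ↥(S : Subgroup X)) ≠ ⊥ := by
  haveI : Nontrivial ↥(S : Subgroup X) := (Subgroup.nontrivial_iff_ne_bot _).mpr h.sylow_ne_bot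
  haveI := S.2.center_nontrivial
  obtain ⟨x, hx⟩ := exists_prime_orderOf_dvd_card' p ((S.2.to_subgroup (Subgroup.center _)).nontrivial_iff_card.mp inferInstance
    |>.elim fun n hn => by rw [hn.2]; exact dvd_pow_self p hn.1.ne')
  intro e
  have hmem : (x : ↥(S : Subgroup X)) ∈ omegaOne p (Subgroup.center ↥(S : Subgroup X)) :=
    Subgroup.subset_closure ⟨x.2, by
      have h1 : x ^ p = 1 := by
        have h0 := pow_orderOf_eq_one x
        rwa [hx] at h0
      exact congrArg Subtype.val h1⟩
  rw [e, Subgroup.mem_bot] at hmem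
  rw [← Subgroup.orderOf_coe, hmem, orderOf_one] at hx
  exact (Fact.out : p.Prime).one_lt.ne hx

theorem cStarStar_le (h : Ctx S M) : cStarStarOf p (S : Subgroup X) ≤ M := by
  refine sup_le (h.top _ (fun s hs => Subgroup.mem_centralizer_iff.mpr fun x hx =>
    (Subgroup.mem_centralizer_iff.mp (omc_le _ hx).2 s hs).symm) h.centOmega) ?_
  refine h.top _ ?_ fun e => h.thompson (Subgroup.normalizer_eq_top_iff.mp e)
  exact Subgroup.le_normalizer.trans (OddOrder.PStable.normalizer_le_normalizer_map (S : Subgroup X) _)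

theorem omcS_le (h : Ctx S M) : omegaOneCenter p (S : Subgroup X) ≤ Vp p X := by
  intro x hx
  obtain ⟨hxS, hxc⟩ := omc_le _ hx
  have hxQ : x ∈ pCore p X := h.con (Subgroup.mem_centralizer_iff.mpr fun q hq =>
    Subgroup.mem_centralizer_iff.mp hxc q (Solvable.Cores.pCore_le_sylow S hq))
  exact mem_omc hxQ (fun y hy => Subgroup.mem_centralizer_iff.mp hxc y (Solvable.Cores.pCore_le_sylow S hy)) (omc_pow _ hx)

theorem C_le (h : Ctx S M) : Cp p X ≤ M := by
  haveI := Cp_normal (p := p) (G := X)
  rcases h.eq_top_or_le (H := Cp p X ⊔ (S : Subgroup X)) le_sup_right with he | he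
  · exfalso
    refine h.ne (eq_top_iff.mpr ?_)
    rw [← he]
    refine sup_le (fun c hc => ?_) h.le_M
    refine h.cStarStar_le (Subgroup.mem_sup_left ?_)
    exact Subgroup.centralizer_le (SetLike.coe_subset_coe.mpr h.omcS_le) hc
  · exact le_sup_left.trans he

/-- The subgroup `J(X) C`. -/
abbrev Lp (p : ℕ) (X : Type*) [Group X] : Subgroup X := thompsonSubgroup p X ⊔ Cp p X

theorem Lp_normal : (Lp p X).Normal := by
  haveI := Cp_normal (p := p) (G := X)
  infer_instance

theorem J_sup_S (h : Ctx S M) (htop : thompsonSubgroup p X ⊔ (S : Subgroup X) ⊔ Cp p X = ⊤) :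
    thompsonSubgroup p X ⊔ (S : Subgroup X) = ⊤ := by
  rcases h.eq_top_or_le (H := thompsonSubgroup p X ⊔ (S : Subgroup X)) le_sup_right with he | he
  · exact he
  · exact absurd (eq_top_iff.mpr (htop ▸ sup_le he h.C_le)) h.ne

end Ctx

/-- Everything S2981 says about a minimal configuration, for odd `p`. -/
theorem Ctx.exists_frame {S : Sylow p X} {M : Subgroup X} (h : Ctx S M) [(Vp p X).Normal] :
    ∃ (r : ℕ) (F : Fin r → Type) (_ : ∀ i, Field (F i)) (_ : ∀ i, Fintype (F i)) (_ : ∀ i, CharP (F i) p)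
      (Φ : Frame (Vp p X) (Ctx.Lp p X) F), Unip S Φ ∧ thompsonSubgroup p X ⊔ (S : Subgroup X) = ⊤ := by
  classical
  haveI := Cp_normal (p := p) (G := X)
  obtain ⟨r, E, hle, htop, hsup, hcomm, -, -, hdec, hoff, hblk⟩ :=
    Cfsg.Agent.S2981.result h.isPMinimal h.con S (fun e => h.ne (eq_top_iff.mpr (e ▸ h.cStarStar_le)))
  have hblk' : ∀ i, ∃ n : ℕ, ∃ (F : Type) (_ : Field F) (_ : Fintype F), Fintype.card F = p ^ n ∧
      (∃ _ : ((Subgroup.centralizer (Vp p X : Set X)).subgroupOf (E i)).Normal,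
        Nonempty (↥(E i) ⧸ (Subgroup.centralizer (Vp p X : Set X)).subgroupOf (E i) ≃* SL(2, F))) ∧
      ActsAsSL2OnSection F ⊤ (E i) ⁅Vp p X, E i⁆ (⁅Vp p X, E i⁆ ⊓ Subgroup.centralizer ((E i : Subgroup X) : Set X)) := by
    intro i
    obtain ⟨n, -, hc | ⟨h2, -⟩⟩ := hblk i
    · exact ⟨n, hc⟩
    · exact absurd h2 h.hp
  choose n F iF iT hF hquot hact using hblk'
  haveI : ∀ i, CharP (F i) p := fun i => charP_of_card_eq_prime_pow (hF i)
  choose hCn hiso using hquot
  choose ρ ψ hρ hψ hker heq using fun i => (hact i).2.2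
  haveI : ∀ i, Finite SL(2, F i) := fun i => inferInstance
  let B : Blocks p (Vp p X) E F :=
    { hp := h.odd
      comm := fun v hv w hw => Fusion.Thompson.mul_comm_of_isEA (omc_isEA _) hv hw
      pow := fun v hv => omc_pow _ hv
      le := hle
      commE := hcomm
      dec := hdec
      off := hoff
      nrm := fun i => (hact i).1
      ρ := ρ
      ρ_surj := fun i => MonoidHom.range_eq_top.mp (hρ i)
      ρ_ker := fun i e he => by
        haveI := hCn i
        have h1 : (Subgroup.centralizer (Vp p X : Set X)).subgroupOf (E i) ≤ (ρ i).ker := by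
          intro c hc
          rw [MonoidHom.mem_ker]
          refine sl_ext (Matrix.ext fun a b => ?_)
          obtain ⟨u, hu⟩ := hψ i (Multiplicative.ofAdd (Pi.single b 1))
          obtain ⟨w, hw, hw2⟩ := heq i c u
          have hwu : w = u := Subtype.ext (by
            rw [hw]
            exact mul_inv_eq_iff_eq_mul.mpr (Subgroup.mem_centralizer_iff.mp hc u (Blocks.U_le i u.2)).symm)
          rw [hwu, hu, toAdd_ofAdd, Matrix.mulVec_single_one] at hw2
          have h3 := (congrFun hw2 a).symm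
          simpa [Matrix.one_apply, Pi.single_apply] using h3
        have hcard : ((Subgroup.centralizer (Vp p X : Set X)).subgroupOf (E i)).index = (ρ i).ker.index := by
          rw [Subgroup.index_ker, hρ i, Subgroup.index_eq_card, Subgroup.card_top]
          exact Nat.card_congr (hiso i).some.toEquiv
        have h2 : (Subgroup.centralizer (Vp p X : Set X)).subgroupOf (E i) = (ρ i).ker := by
          refine le_antisymm h1 (Subgroup.relIndex_eq_one.mp ?_)
          have h4 := Subgroup.relIndex_mul_index h1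
          rw [hcard] at h4
          exact (Nat.mul_eq_right Subgroup.index_ne_zero_of_finite).mp h4
        have : e ∈ (ρ i).ker := he
        rw [← h2] at this
        exact this
      ψ := ψ
      ψ_surj := hψ
      ψ_ker := fun i u hu => ((hker i u).mp hu).2
      equiv := fun i e u w hw => by
        obtain ⟨w', hw', h'⟩ := heq i e u
        rwa [show w = w' from Subtype.ext (hw.trans hw'.symm)] }
  haveI := Ctx.Lp_normal (p := p) (X := X)
  have hΦ : Nonempty (Frame (Vp p X) (Ctx.Lp p X) F) := by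
    rw [show Ctx.Lp p X = ⨆ i, E i from hsup.symm]
    exact ⟨B.toFrame⟩
  obtain ⟨Φ', hΦ'⟩ := exists_unip S hΦ.some
  exact ⟨r, F, iF, iT, inferInstance, Φ', hΦ', h.J_sup_S htop⟩

end CfsgLib.PushingUpSingle.Block
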