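/-
The functor: the characteristic subgroup of the centralizer of `Ω₁(Z(J(S)))` that works in all pushing-up situations.
-/
import Cfsg.Agent.Lib.PushingUpSingle.Main
import Cfsg.Agent.Lib.CharTransfer.Parabolic
import Cfsg.Agent.Lib.Fusion.SFreeFF.Functors

set_option autoImplicit false
set_option linter.unusedSectionVars false
set_option linter.style.haveILetI false

universe u

namespace CfsgLib.PushingUpSingle

variable {p : ℕ} [Fact p.Prime]

/-- The join of all characteristic subgroups that work. -/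
def kBase (p : ℕ) (Q : Type u) [Group Q] : Subgroup Q :=
  ⨆ K : {K : Subgroup Q // K.Characteristic ∧ Works p Q K}, (K : Subgroup Q)

theorem kBase_works (Q : Type u) [Group Q] : Works p Q (kBase p Q) := by
  intro G _ _ τ hτ hpu M hM hle hnc
  by_cases hg : Good τ.range M
  · exact Or.inl hg
  right
  rw [kBase, Subgroup.map_iSup]
  haveI : ∀ K : {K : Subgroup Q // K.Characteristic ∧ Works p Q K}, ((K : Subgroup Q).map τ).Normal :=
    fun K => (K.2.2 G τ hτ hpu M hM hle hnc).resolve_left hg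
  infer_instance

theorem kBase_ne_bot (hp : p ≠ 2) (Q : Type u) [Group Q] [Finite Q] [Nontrivial Q] (hQ : IsPGroup p Q) :
    kBase p Q ≠ ⊥ := fun h => by
  obtain ⟨K, h1, h2, h3⟩ := exists_single hp Q hQ
  exact h1 (le_bot_iff.1 (h ▸ le_iSup (fun K : {K : Subgroup Q // K.Characteristic ∧ Works p Q K} =>
    (K : Subgroup Q)) ⟨K, h2, h3⟩))

theorem map_center_equiv {Q R : Type*} [Group Q] [Group R] (φ : Q ≃* R) :
    (Subgroup.center Q).map φ.toMonoidHom = Subgroup.center R := by
  refine le_antisymm ?_ fun x hx => ⟨φ.symm x, ?_, φ.apply_symm_apply x⟩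
  · rintro _ ⟨z, hz, rfl⟩
    refine Subgroup.mem_center_iff.mpr fun r => ?_
    show r * φ z = φ z * r
    rw [← φ.apply_symm_apply r, ← map_mul, ← map_mul, Subgroup.mem_center_iff.mp hz]
  · refine Subgroup.mem_center_iff.mpr fun q => φ.injective ?_
    rw [map_mul, map_mul, φ.apply_symm_apply, Subgroup.mem_center_iff.mp hx]

theorem works_map {Q R : Type u} [Group Q] [Group R] (φ : Q ≃* R) {K : Subgroup Q} (hK : Works p Q K) :
    Works p R (K.map φ.toMonoidHom) := by
  intro G _ _ τ hτ hpu M hM hle hnc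
  have hr : (τ.comp φ.toMonoidHom).range = τ.range := by
    rw [MonoidHom.range_comp, MonoidHom.range_eq_top.mpr (show Function.Surjective φ.toMonoidHom from φ.surjective),
      ← MonoidHom.range_eq_map]
  have h := hK G (τ.comp φ.toMonoidHom) (hτ.comp φ.injective) (hr.symm ▸ hpu) M hM (hr.symm ▸ hle) (by
    rwa [← Subgroup.map_map, map_center_equiv φ])
  rwa [hr, ← Subgroup.map_map] at h

theorem kBase_map {Q R : Type u} [Group Q] [Group R] (φ : Q ≃* R) :
    (kBase p Q).map φ.toMonoidHom = kBase p R := by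
  have key : ∀ {Q R : Type u} [Group Q] [Group R] (φ : Q ≃* R), (kBase p Q).map φ.toMonoidHom ≤ kBase p R := by
    intro Q R _ _ φ
    rw [kBase, Subgroup.map_iSup]
    exact iSup_le fun K => le_iSup (fun K : {K : Subgroup R // K.Characteristic ∧ Works p R K} => (K : Subgroup R))
      ⟨_, haveI := K.2.1; CharTransfer.characteristic_map_equiv φ _, works_map φ K.2.2⟩
  refine le_antisymm (key φ) fun r hr => ⟨φ.symm r, key φ.symm ⟨r, hr, rfl⟩, φ.apply_symm_apply r⟩

/-- `C_Q(Ω₁(Z(J(Q))))`. -/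
abbrev baum (p : ℕ) (Q : Type u) [Group Q] : Subgroup Q :=
  Subgroup.centralizer ((Cfsg.omegaOne p (Cfsg.thompsonSubgroup p Q ⊓
    Subgroup.centralizer (Cfsg.thompsonSubgroup p Q : Set Q)) : Subgroup Q) : Set Q)

theorem map_centralizer_equiv {Q R : Type*} [Group Q] [Group R] (φ : Q ≃* R) (H : Subgroup Q) :
    (Subgroup.centralizer (H : Set Q)).map φ.toMonoidHom =
      Subgroup.centralizer ((H.map φ.toMonoidHom : Subgroup R) : Set R) := by
  refine le_antisymm ?_ fun x hx => ⟨φ.symm x, ?_, φ.apply_symm_apply x⟩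
  · rintro _ ⟨c, hc, rfl⟩
    rintro _ ⟨h, hh, rfl⟩
    show φ h * φ c = φ c * φ h
    rw [← map_mul, ← map_mul, hc h hh]
  · intro h hh
    refine φ.injective ?_
    rw [map_mul, map_mul, φ.apply_symm_apply]
    exact hx (φ h) ⟨h, hh, rfl⟩

theorem baum_map {Q R : Type u} [Group Q] [Group R] [Finite Q] (φ : Q ≃* R) :
    (baum p Q).map φ.toMonoidHom = baum p R := by
  haveI : Finite R := Finite.of_equiv Q φ.toEquiv
  rw [baum, map_centralizer_equiv, CharTransfer.omegaOne_map_injective p _ φ.injective,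
    Subgroup.map_inf _ _ _ φ.injective, map_centralizer_equiv, CfsgLib.Fusion.Thompson.map_thompson_equiv φ]

/-- The functor `K`. -/
def kFunctor (p : ℕ) (Q : Type u) [Group Q] : Subgroup Q := (kBase p ↥(baum p Q)).map (baum p Q).subtype

theorem isCharPFunctor_kFunctor (hp : p ≠ 2) : Cfsg.IsCharPFunctor.{u} p (kFunctor p) := by
  refine ⟨fun Q _ _ hQ _ h => ?_, fun Q R _ _ _ _ φ => ?_⟩
  · haveI := hQ.center_nontrivial
    haveI : Nontrivial ↥(baum p Q) := by
      rw [Subgroup.nontrivial_iff_ne_bot]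
      exact fun e => (Subgroup.nontrivial_iff_ne_bot _).1 ‹Nontrivial (Subgroup.center Q)›
        (le_bot_iff.1 (e ▸ Subgroup.center_le_centralizer _))
    exact kBase_ne_bot hp _ (hQ.to_subgroup _)
      ((Subgroup.map_eq_bot_iff_of_injective _ (baum p Q).subtype_injective).1 h)
  · let e : ↥(baum p Q) ≃* ↥(baum p R) :=
      ((baum p Q).equivMapOfInjective φ.toMonoidHom φ.injective).trans (MulEquiv.subgroupCongr (baum_map φ))
    show ((kBase p ↥(baum p Q)).map (baum p Q).subtype).map φ.toMonoidHom = (kBase p ↥(baum p R)).map (baum p R).subtype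
    rw [← kBase_map e, Subgroup.map_map, Subgroup.map_map]
    rfl

/-- The pair. -/
def zkPair (p : ℕ) : Set (∀ (Q : Type u) [Group Q], Subgroup Q) := {Fusion.SFreeFF.zFunctor, kFunctor p}

theorem isCharPFunctor_zkPair (hp : p ≠ 2) : ∀ W ∈ zkPair.{u} p, Cfsg.IsCharPFunctor.{u} p W := by
  rintro W (rfl | rfl)
  exacts [Fusion.SFreeFF.isCharPFunctor_zFunctor p, isCharPFunctor_kFunctor hp]

end CfsgLib.PushingUpSingle
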