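/-
A constrained group with controlled proper subgroups and quotients is controlled by the two functors.
-/
import Cfsg.Agent.Lib.PushingUpSingle.Functor
import Cfsg.Agent.Lib.PushingUpSingle.BlockSituation
import Cfsg.Agent.Lib.KGroups.Functor.ReduceTransfer

set_option autoImplicit false
set_option linter.unusedSectionVars false
set_option linter.style.haveILetI false

open CfsgLib.LocalEven.MovesFixed
open scoped commutatorElement

universe u

namespace CfsgLib.PushingUpSingle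

variable {X : Type u} [Group X] [Finite X] {p : ℕ} [Fact p.Prime]

local notation "ℭ" H:max => Subgroup.centralizer (SetLike.coe H)

/-- The elements whose commutators with `Q` lie in `T`. -/
def commBound (Q T : Subgroup X) [hQ : Q.Normal] : Subgroup X where
  carrier := {g | ∀ q ∈ Q, g * q * g⁻¹ * q⁻¹ ∈ T}
  one_mem' := fun q _ => by simp
  mul_mem' := fun {g h} hg hh q hq => by
    show g * h * q * (g * h)⁻¹ * q⁻¹ ∈ T
    rw [show g * h * q * (g * h)⁻¹ * q⁻¹ = (g * (h * q * h⁻¹) * g⁻¹ * (h * q * h⁻¹)⁻¹) * (h * q * h⁻¹ * q⁻¹) by group]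
    exact mul_mem (hg _ (hQ.conj_mem q hq h)) (hh q hq)
  inv_mem' := fun {g} hg q hq => by
    rw [show g⁻¹ * q * g⁻¹⁻¹ * q⁻¹ = (g * (g⁻¹ * q * g⁻¹⁻¹) * g⁻¹ * (g⁻¹ * q * g⁻¹⁻¹)⁻¹)⁻¹ by group]
    exact T.inv_mem (hg _ (hQ.conj_mem q hq g⁻¹))

theorem mem_commBound {Q T : Subgroup X} [Q.Normal] {g : X} :
    g ∈ commBound Q T ↔ ∀ q ∈ Q, g * q * g⁻¹ * q⁻¹ ∈ T := Iff.rfl

/-- A normal subgroup of `S` whose commutators with the group lie in `T` has its focal part in `T`. -/
theorem inf_commutator_le_of_bound (P : Sylow p X) {Q T : Subgroup X} [Q.Normal] (hQP : Q ≤ (P : Subgroup X))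
    (hT : ⁅(P : Subgroup X), (P : Subgroup X)⁆ ≤ T) (h : commBound Q T = ⊤) : Q ⊓ commutator X ≤ T := by
  have hb : ∀ g : X, ∀ q ∈ Q, g * q * g⁻¹ * q⁻¹ ∈ T := fun g => mem_commBound.1 (h ▸ Subgroup.mem_top g)
  set D := Q ⊓ T with hD
  have hcentral : ∀ g : X, ∀ q ∈ Q, g * q * g⁻¹ * q⁻¹ ∈ D := fun g q hq =>
    Subgroup.mem_inf.2 ⟨mul_mem ((inferInstance : Q.Normal).conj_mem q hq g) (inv_mem hq), hb g q hq⟩
  haveI hDn : D.Normal := ⟨fun d hd g => by
    have := mul_mem (hcentral g d hd.1) hd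
    rwa [inv_mul_cancel_right] at this⟩
  intro q hqm
  obtain ⟨hq, hqG⟩ := Subgroup.mem_inf.1 hqm
  have hm := central_mem (P.mapSurjective (QuotientGroup.mk'_surjective D)) (z := QuotientGroup.mk' D q)
    ⟨q, hQP hq, rfl⟩ (Subgroup.mem_center_iff.2 fun y => by
      obtain ⟨g, rfl⟩ := QuotientGroup.mk'_surjective D y
      have h1 : QuotientGroup.mk' D (g * q * g⁻¹ * q⁻¹) = 1 := (QuotientGroup.eq_one_iff _).2 (hcentral g q hq)
      rw [map_mul, map_mul, map_mul, map_inv, map_inv, mul_inv_eq_one, mul_inv_eq_iff_eq_mul] at h1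
      exact h1)
    (Subgroup.commutator_mono le_top le_top
      ((Subgroup.map_commutator (⊤ : Subgroup X) ⊤ (QuotientGroup.mk' D)).le ⟨q, hqG, rfl⟩))
  change QuotientGroup.mk' D q ∈ ⁅(P : Subgroup X).map _, (P : Subgroup X).map _⁆ at hm
  rw [← Subgroup.map_commutator] at hm
  obtain ⟨c, hc, hcq⟩ := hm
  have hcd : c⁻¹ * q ∈ D := QuotientGroup.eq.1 hcq
  have := mul_mem (hT hc) hcd.2
  rwa [mul_inv_cancel_left] at this

/-- If `Ω₁(Z(S))` is central, then so is `Z(S)`. -/
theorem center_le_of_omega (hcon : ℭ (Cfsg.pCore p X) ≤ Cfsg.pCore p X) (S : Sylow p X)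
    (h : Cfsg.omegaOneCenter p (S : Subgroup X) ≤ Subgroup.center X) :
    (S : Subgroup X) ⊓ ℭ (S : Subgroup X) ≤ Subgroup.center X := by
  classical
  by_contra hne
  obtain ⟨y₀, hy₀, hy₀c⟩ := SetLike.not_le_iff_exists.1 hne
  obtain ⟨z, hz, hzc, hzp⟩ := LocalEvenB.PushingUp.exists_pow_central (S.2.to_le inf_le_left) hy₀ hy₀c
  set Q := Cfsg.pCore p X
  have hQS : Q ≤ (S : Subgroup X) := Solvable.Cores.pCore_le_sylow S
  haveI : Q.Normal := LocalEven.SylowIn.pCore_normal X p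
  set A : Subgroup X := Q ⊓ ℭ Q with hA
  haveI : A.Normal := inferInstance
  letI : CommGroup A :=
    { (inferInstance : Group A) with mul_comm := fun a b => Subtype.ext (b.2.2 a a.2.1) }
  have hcS : ∀ s ∈ (S : Subgroup X), s * z = z * s := fun s hs => hz.2 s hs
  have hzA : z ∈ A := by
    have h1 : z ∈ ℭ Q := fun q hq => hcS q (hQS hq)
    exact ⟨hcon h1, h1⟩
  let f : X ⧸ (S : Subgroup X) → A := Quotient.lift
    (fun g : X => (⟨g * z * g⁻¹, (inferInstance : A.Normal).conj_mem z hzA g⟩ : A)) (fun a b hab => by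
      have hs : a⁻¹ * b ∈ (S : Subgroup X) := QuotientGroup.leftRel_apply.mp hab
      apply Subtype.ext
      show a * z * a⁻¹ = b * z * b⁻¹
      calc a * z * a⁻¹ = a * (z * (a⁻¹ * b)) * b⁻¹ := by group
        _ = a * ((a⁻¹ * b) * z) * b⁻¹ := by rw [hcS _ hs]
        _ = _ := by group)
  haveI : Fintype (X ⧸ (S : Subgroup X)) := Fintype.ofFinite _
  set w : A := ∏ c, f c with hw
  have hwc : (w : X) ∈ Subgroup.center X := by
    refine Subgroup.mem_center_iff.2 fun x => ?_
    let c : A →* A :=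
      { toFun := fun a => ⟨x * a * x⁻¹, (inferInstance : A.Normal).conj_mem a a.2 x⟩
        map_one' := Subtype.ext (by simp)
        map_mul' := fun a b => Subtype.ext (by simp [mul_assoc]) }
    have h1 : c w = w := by
      rw [hw, map_prod]
      refine Fintype.prod_equiv (MulAction.toPerm x) _ _ fun q => ?_
      obtain ⟨g, rfl⟩ := QuotientGroup.mk_surjective q
      apply Subtype.ext
      show x * (g * z * g⁻¹) * x⁻¹ = x * g * z * (x * g)⁻¹
      group
    have h2 : x * (w : X) * x⁻¹ = w := congrArg Subtype.val h1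
    exact mul_inv_eq_iff_eq_mul.1 h2
  set m := Fintype.card (X ⧸ (S : Subgroup X)) with hm
  set zA : A := ⟨z, hzA⟩
  have hfp : ∀ q, f q ^ p = zA ^ p := fun q => by
    obtain ⟨g, rfl⟩ := QuotientGroup.mk_surjective q
    apply Subtype.ext
    show (g * z * g⁻¹) ^ p = z ^ p
    rw [conj_pow, Subgroup.mem_center_iff.1 hzp g, mul_inv_cancel_right]
  have hwp : w ^ p = (zA ^ m) ^ p := by
    rw [hw, ← Finset.prod_pow, Finset.prod_congr rfl fun q _ => hfp q, Finset.prod_const, Finset.card_univ,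
      ← pow_mul, ← pow_mul, mul_comm]
  set v : A := w * (zA ^ m)⁻¹ with hv
  have hvp : (v : X) ^ p = 1 := by
    have : v ^ p = 1 := by rw [hv, mul_pow, inv_pow, hwp, mul_inv_cancel]
    exact congrArg Subtype.val this
  have hvS : (v : X) ∈ (S : Subgroup X) ⊓ ℭ (S : Subgroup X) := by
    refine ⟨hQS v.2.1, fun s hs => ?_⟩
    have h1 : Commute s (w : X) := Subgroup.mem_center_iff.1 hwc s
    have h2 : Commute s (z ^ m) := Commute.pow_right (hcS s hs) m
    exact (h1.mul_right h2.inv_right).eq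
  have hvc : (v : X) ∈ Subgroup.center X := h (Subgroup.subset_closure ⟨hvS, hvp⟩)
  have hzm : z ^ m ∈ Subgroup.center X := by
    have h1 := mul_mem (inv_mem hvc) hwc
    rwa [show ((v : X))⁻¹ * w = z ^ m by
      show ((w : X) * (z ^ m)⁻¹)⁻¹ * w = z ^ m
      group] at h1
  refine hzc ?_
  obtain ⟨a, ha⟩ := S.2 ⟨z, hz.1⟩
  have hcop : (orderOf z).Coprime m := by
    refine Nat.Coprime.coprime_dvd_left (orderOf_dvd_of_pow_eq_one (congrArg Subtype.val ha)) (Nat.Coprime.pow_left a ?_)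
    rw [hm, ← Nat.card_eq_fintype_card, ← Subgroup.index_eq_card]
    exact (Fact.out : p.Prime).coprime_iff_not_dvd.2 S.not_dvd_index
  obtain ⟨k, hk⟩ := exists_pow_eq_self_of_coprime hcop.symm
  rw [← hk]
  exact pow_mem hzm k

theorem inducedFunctor_kFunctor (S : Sylow p X) :
    Cfsg.inducedFunctor (kFunctor p) (S : Subgroup X) =
      ((kBase p ↥(baum p ↥(S : Subgroup X))).map (baum p ↥(S : Subgroup X)).subtype).map (S : Subgroup X).subtype := rfl

/-- The Thompson subgroup is normal: then so is `K`, unless `Ω₁(Z(S))` is central. -/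
theorem normal_or_central (hp : p ≠ 2) (S : Sylow p X) {M : Subgroup X} (hne : M ≠ ⊤) (hle : (S : Subgroup X) ≤ M)
    (htop : ∀ H : Subgroup X, (S : Subgroup X) ≤ H → ¬ H ≤ M → H = ⊤)
    (hJ : (Cfsg.thompsonSubgroupOf p (S : Subgroup X)).Normal) :
    Cfsg.omegaOneCenter p (S : Subgroup X) ≤ Subgroup.center X ∨
      (Cfsg.inducedFunctor (kFunctor p) (S : Subgroup X)).Normal := by
  classical
  haveI : (Vp p X).Normal := Vp_normal
  haveI := hJ
  set J := Cfsg.thompsonSubgroupOf p (S : Subgroup X) with hJdef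
  set Q := Cfsg.pCore p X
  have hJS : J ≤ (S : Subgroup X) := Subgroup.map_subtype_le _
  have hJQ : J ≤ Q := Solvable.Cores.le_pCore (S.2.to_le hJS)
  set Z := Block.Data.Z S with hZ
  have hZn : Z.Normal := by
    refine LocalEven.PushingUpClosure.normal_of_map_le fun g => ?_
    rintro _ ⟨z, hz, rfl⟩
    obtain ⟨h1, h2, h3⟩ := Block.Data.mem_Z_iff.1 hz
    refine Block.Data.mem_Z_iff.2 ⟨hJ.conj_mem z h1 g, fun j hj => ?_, ?_⟩
    · show j * (g * z * g⁻¹) = g * z * g⁻¹ * j
      have e := h2 (g⁻¹ * j * g) (by simpa using hJ.conj_mem j hj g⁻¹)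
      calc j * (g * z * g⁻¹) = g * ((g⁻¹ * j * g) * z) * g⁻¹ := by group
        _ = g * (z * (g⁻¹ * j * g)) * g⁻¹ := by rw [e]
        _ = _ := by group
    · show (g * z * g⁻¹) ^ p = 1
      rw [conj_pow, h3, mul_one, mul_inv_cancel]
  haveI := hZn
  haveI : (ℭ Z).Normal := inferInstance
  by_cases hC : ℭ Z ≤ M
  · right
    have h1 : (S : Subgroup X) ⊓ ℭ Z ≤ Q := LocalEvenB.PushingUp.frattini_step ⟨S, rfl⟩
      (fun K hK hp => Solvable.Cores.le_pCore (hn := hK) hp) htop hne _ hC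
    have hB : (baum p ↥(S : Subgroup X)).map (S : Subgroup X).subtype = Q ⊓ ℭ Z := by
      refine le_antisymm (fun x hx => ?_) fun x hx => Block.Data.mem_B_iff.2 ⟨Solvable.Cores.pCore_le_sylow S hx.1, hx.2⟩
      obtain ⟨hxS, hxc⟩ := Block.Data.mem_B_iff.1 hx
      exact ⟨h1 ⟨hxS, hxc⟩, hxc⟩
    haveI : Q.Normal := LocalEven.SylowIn.pCore_normal X p
    rw [inducedFunctor_kFunctor]
    refine normal_map_char (S : Subgroup X).subtype_injective (by rw [hB]; infer_instance) ?_
    exact Subgroup.characteristic_iff_map_eq.2 fun e => kBase_map e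
  · left
    have htop' : ℭ Z ⊔ (S : Subgroup X) = ⊤ := htop _ le_sup_right fun h => hC (le_sup_left.trans h)
    obtain ⟨A, hA, hAS⟩ := Fusion.Thompson.exists_maxEA_le_sylow S
    have hJeq := Fusion.Thompson.thompsonSubgroupOf_eq hA hAS
    intro v hv
    obtain ⟨hvS, hvc⟩ := omc_le _ hv
    have hvp := omc_pow _ hv
    have hvJ : v ∈ J := by
      rw [hJdef, hJeq]
      refine CharTransfer.mem_sSup_maxEA ⟨hA, hAS⟩ ?_
      exact Fusion.Thompson.mem_of_pow_eq_one_of_centralizes hA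
        (Subgroup.mem_centralizer_iff.mpr fun a ha => hvc a (hAS ha)) hvp
    have hvZ : v ∈ Z := Block.Data.mem_Z_iff.2 ⟨hvJ, fun j hj => hvc j (hJS hj), hvp⟩
    have h2 : ℭ Z ⊔ (S : Subgroup X) ≤ Subgroup.centralizer {v} := sup_le
      (fun g hg => Subgroup.mem_centralizer_singleton_iff.mpr (hg v hvZ).symm)
      (fun s hs => Subgroup.mem_centralizer_singleton_iff.mpr (hvc s hs))
    rw [htop'] at h2
    exact Subgroup.mem_center_iff.2 fun g => Subgroup.mem_centralizer_singleton_iff.mp (h2 (Subgroup.mem_top g))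

/-- In a minimal configuration the commutators of `O_p(X)` with `X` lie in the derived group of `M`. -/
theorem minimal_bound (S : Sylow p X) {M : Subgroup X} (c : Block.Ctx S M)
    (hK : ¬ (Cfsg.inducedFunctor (kFunctor p) (S : Subgroup X)).Normal) [(Cfsg.pCore p X).Normal]
    (hM : commBound (Cfsg.pCore p X) ((S : Subgroup X) ⊓ ⁅M, M⁆) ⊓ M = M) :
    commBound (Cfsg.pCore p X) ((S : Subgroup X) ⊓ ⁅M, M⁆) = ⊤ := by
  classical
  haveI : (Vp p X).Normal := Vp_normal
  obtain ⟨r, F, iF, iFt, iC, Φ, hU, hgen⟩ := c.exists_frame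
  let d : Block.Data S M F := ⟨c, Φ, hU, hgen⟩
  haveI := d.O_normal
  obtain ⟨x, P1, hP1, hBP1, hP1M, hpu, hcoat⟩ := d.exists_parabolic
  set Q := Cfsg.pCore p X with hQ
  let τ : ↥(baum p ↥(S : Subgroup X)) →* P1 :=
    ((S : Subgroup X).subtype.comp (baum p ↥(S : Subgroup X)).subtype).codRestrict P1
      fun b => hBP1 ⟨b, b.2, rfl⟩
  have hinj : Function.Injective τ := fun a b h => Subtype.ext (Subtype.ext (congrArg (fun t : P1 => (t : X)) h))
  have hrange : τ.range = (Block.Data.B S).subgroupOf P1 := by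
    apply Subgroup.map_injective P1.subtype_injective
    rw [Subgroup.map_subgroupOf_eq_of_le hBP1, MonoidHom.map_range]
    show ((S : Subgroup X).subtype.comp (baum p ↥(S : Subgroup X)).subtype).range = _
    rw [MonoidHom.range_comp, Subgroup.range_subtype]
  rw [← hrange] at hpu
  have hleM : τ.range ≤ M.subgroupOf P1 := by
    rw [hrange]
    exact Subgroup.comap_mono ((Subgroup.map_subtype_le _).trans c.le_M)
  have hnc : ¬ (Subgroup.center ↥(baum p ↥(S : Subgroup X))).map τ ≤ Subgroup.center P1 := by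
    intro h
    refine hP1M fun g hg => c.cStarStar_le (Subgroup.mem_sup_left ?_)
    intro v hv
    obtain ⟨hvS, hvc⟩ := omc_le _ hv
    have hvO := d.U1_le_O (Subgroup.mem_sup_left (c.omcS_le hv))
    obtain ⟨y, hy, hyv⟩ := Block.Data.O_le_B hvO
    have hyc : (⟨y, hy⟩ : ↥(baum p ↥(S : Subgroup X))) ∈ Subgroup.center _ := Subgroup.mem_center_iff.2 fun b => by
      apply Subtype.ext; apply Subtype.ext
      show ((b : ↥(S : Subgroup X)) : X) * (y : X) = (y : X) * ((b : ↥(S : Subgroup X)) : X)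
      rw [show (y : X) = v from hyv]
      exact hvc _ (b : ↥(S : Subgroup X)).2
    have h1 := congrArg Subtype.val (Subgroup.mem_center_iff.1 (h ⟨_, hyc, rfl⟩) ⟨g, hg⟩)
    change g * (y : X) = (y : X) * g at h1
    rw [show (y : X) = v from hyv] at h1
    exact h1.symm
  rcases kBase_works _ P1 τ hinj hpu _ hcoat hleM hnc with hg | hn
  swap
  · exfalso
    set K := Cfsg.inducedFunctor (kFunctor p) (S : Subgroup X) with hKdef
    have e : K = ((kBase p ↥(baum p ↥(S : Subgroup X))).map τ).map P1.subtype := by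
      rw [hKdef, inducedFunctor_kFunctor, Subgroup.map_map, Subgroup.map_map]
      rfl
    have hP1N : P1 ≤ Subgroup.normalizer (K : Set X) := by
      conv_lhs => rw [← P1.range_subtype, MonoidHom.range_eq_map, ← Subgroup.normalizer_eq_top_iff.2 hn]
      rw [e]
      exact Subgroup.le_normalizer_map P1.subtype
    refine hP1M (hP1N.trans (c.top _ ?_ fun h => hK (Subgroup.normalizer_eq_top_iff.1 h)))
    exact Subgroup.le_normalizer.trans (KGroups.Functor.normalizer_le_normalizer_functor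
      (KGroups.Functor.isConjugacyFunctor_induced (isCharPFunctor_kFunctor c.hp)) S.2)
  -- the focal condition in `P1`
  have hBP : ∀ {a b : X}, a ∈ P1 → b ∈ P1 → a * b * a⁻¹ * b⁻¹ ∈ Block.Data.B S → a * b * a⁻¹ * b⁻¹ ∈ ⁅M, M⁆ := by
    intro a b ha hb hab
    have h1 := hg ⟨(hrange ▸ Subgroup.mem_subgroupOf.2 hab : (⟨a, ha⟩ * ⟨b, hb⟩ * ⟨a, ha⟩⁻¹ * ⟨b, hb⟩⁻¹ : P1) ∈ τ.range),
      Subgroup.commutator_mem_commutator (Subgroup.mem_top _) (Subgroup.mem_top _)⟩
    have h2 : a * b * a⁻¹ * b⁻¹ ∈ (⁅M.subgroupOf P1, M.subgroupOf P1⁆).map P1.subtype := ⟨_, h1, rfl⟩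
    rw [Subgroup.map_commutator, Subgroup.subgroupOf_map_subtype] at h2
    exact Subgroup.commutator_mono inf_le_left inf_le_left h2
  have hQS : Q ≤ (S : Subgroup X) := Solvable.Cores.pCore_le_sylow S
  haveI := Block.Data.B0_char (S := S)
  -- commutators with `Q` lie in `O`
  have hD : P1 ≤ commBound Q (Block.Data.O S) := by
    have hBD : Block.Data.B S ≤ commBound Q (Block.Data.O S) := fun b hb => mem_commBound.2 fun q hq => by
      have hnB : q ∈ Subgroup.normalizer (Block.Data.B S : Set X) :=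
        OddOrder.PStable.normalizer_le_normalizer_map (S : Subgroup X) (Block.Data.B0 S) (Subgroup.le_normalizer (hQS hq))
      have h1 : b * (q * b⁻¹ * q⁻¹) ∈ Block.Data.B S :=
        mul_mem hb ((Subgroup.mem_normalizer_iff.1 hnB b⁻¹).1 (inv_mem hb))
      rw [← mul_assoc, ← mul_assoc] at h1
      exact Block.Data.mem_O_iff.2 ⟨mul_mem ((inferInstance : Q.Normal).conj_mem q hq b) (inv_mem hq),
        (Block.Data.mem_B_iff.1 h1).2⟩
    refine hP1.trans (sup_le hBD ?_)
    rintro _ ⟨b, hb, rfl⟩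
    refine mem_commBound.2 fun q hq => ?_
    have h1 := mem_commBound.1 (hBD hb) (x⁻¹ * q * x) (by simpa using (inferInstance : Q.Normal).conj_mem q hq x⁻¹)
    have h2 := (inferInstance : (Block.Data.O S).Normal).conj_mem _ h1 x
    show x * b * x⁻¹ * q * (x * b * x⁻¹)⁻¹ * q⁻¹ ∈ Block.Data.O S
    convert h2 using 1
    group
  set E := Block.Data.O S ⊓ ⁅M, M⁆ with hE
  have hOB : Block.Data.O S ≤ Block.Data.B S := Block.Data.O_le_B
  haveI hEn : E.Normal := by
    rw [← Subgroup.normalizer_eq_top_iff]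
    have hMN : M ≤ Subgroup.normalizer (E : Set X) := fun m hm => by
      rw [Subgroup.mem_normalizer_iff]
      have hf : ∀ m ∈ M, ∀ e ∈ E, m * e * m⁻¹ ∈ E := fun m hm e he => by
        refine ⟨(inferInstance : (Block.Data.O S).Normal).conj_mem e he.1 m, ?_⟩
        have h1 : m * e * m⁻¹ * e⁻¹ ∈ ⁅M, M⁆ :=
          Subgroup.commutator_mem_commutator hm (Subgroup.commutator_le_self _ he.2)
        have := mul_mem h1 he.2
        rwa [inv_mul_cancel_right] at this
      refine fun e => ⟨hf m hm e, fun he => ?_⟩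
      simpa [mul_assoc] using hf m⁻¹ (inv_mem hm) _ he
    have hPN : P1 ≤ Subgroup.normalizer (E : Set X) := fun g hg' => by
      rw [Subgroup.mem_normalizer_iff]
      have hf : ∀ g ∈ P1, ∀ e ∈ E, g * e * g⁻¹ ∈ E := fun g hg' e he => by
        have hO : g * e * g⁻¹ ∈ Block.Data.O S := (inferInstance : (Block.Data.O S).Normal).conj_mem e he.1 g
        refine ⟨hO, ?_⟩
        have h1 := hBP hg' (hBP1 (hOB he.1)) (mul_mem (hOB hO) (inv_mem (hOB he.1)))
        have := mul_mem h1 he.2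
        rwa [inv_mul_cancel_right] at this
      refine fun e => ⟨hf g hg' e, fun he => ?_⟩
      simpa [mul_assoc] using hf g⁻¹ (inv_mem hg') _ he
    exact (c.eq_top_or_le (c.le_M.trans hMN)).resolve_right fun h => hP1M (hPN.trans h)
  have hMC : M ≤ commBound Q ((S : Subgroup X) ⊓ ⁅M, M⁆) := inf_eq_right.1 hM
  obtain ⟨P, hP⟩ := hpu.2.1
  have hP1C : P1 ≤ commBound Q ((S : Subgroup X) ⊓ ⁅M, M⁆) := by
    rw [← Subgroup.subgroupOf_eq_top]
    refine Solvable.Cores.eq_top_of_sylow_le _ fun q hq => ?_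
    by_cases hqp : q = p
    · subst hqp
      refine ⟨P, hP ▸ hrange ▸ Subgroup.comap_mono ?_⟩
      exact ((Subgroup.map_subtype_le _).trans c.le_M).trans hMC
    haveI := Fact.mk hq
    obtain ⟨R⟩ : Nonempty (Sylow q P1) := inferInstance
    refine ⟨R, fun g hgR => Subgroup.mem_subgroupOf.2 (mem_commBound.2 fun t ht => ?_)⟩
    obtain ⟨a, ha⟩ := R.isPGroup' ⟨g, hgR⟩
    have hcop : (orderOf (g : X)).Coprime p := Nat.Coprime.coprime_dvd_left
      (orderOf_dvd_of_pow_eq_one (by simpa using congrArg (fun t : (R : Subgroup P1) => ((t : P1) : X)) ha))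
      (Nat.Coprime.pow_left a ((Nat.coprime_primes hq Fact.out).2 hqp))
    obtain ⟨cc, hcc⟩ : ∃ cc, cc = (g : X) * t * (g : X)⁻¹ * t⁻¹ := ⟨_, rfl⟩
    rw [← hcc]
    have hcO : cc ∈ Block.Data.O S := hcc ▸ mem_commBound.1 (hD g.2) t ht
    suffices hcE : cc ∈ E from ⟨hQS hcO.1, hcE.2⟩
    have hgc : (g : X) * cc * (g : X)⁻¹ * cc⁻¹ ∈ E := by
      have hO := mul_mem ((inferInstance : (Block.Data.O S).Normal).conj_mem cc hcO (g : X)) (inv_mem hcO)
      exact ⟨hO, hBP g.2 (hBP1 (hOB hcO)) (hOB hO)⟩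
    obtain ⟨k, hk⟩ := (Solvable.Cores.isPGroup_pCore p) ⟨cc, hcO.1⟩
    refine (QuotientGroup.eq_one_iff (N := E) cc).1 (LocalEvenB.PushingUp.fixed_of_step (p := p)
      (x := QuotientGroup.mk' E g) (u := QuotientGroup.mk' E t) (c := QuotientGroup.mk' E cc) ?_ ?_
      (Nat.Coprime.coprime_dvd_left (orderOf_map_dvd _ _) hcop) ⟨k, ?_⟩)
    · rw [← map_inv, ← map_mul, ← map_mul, ← map_mul, hcc]
      congr 1
      group
    · have h1 : QuotientGroup.mk' E ((g : X) * cc * (g : X)⁻¹ * cc⁻¹) = 1 := (QuotientGroup.eq_one_iff _).2 hgc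
      rw [map_mul, map_mul, map_mul, map_inv, map_inv, mul_inv_eq_one, mul_inv_eq_iff_eq_mul] at h1
      exact h1
    · rw [← map_pow, show cc ^ p ^ k = 1 from congrArg Subtype.val hk, map_one]
  exact (c.eq_top_or_le (c.le_M.trans hMC)).resolve_right fun h => hP1M (hP1C.trans h)

open KGroups.Functor in
/-- The constrained step. -/
theorem constrained_step (hp : p ≠ 2)
    (hcon : Subgroup.centralizer (Cfsg.pCore p X : Set X) ≤ Cfsg.pCore p X)
    (hsub : ∀ K : Subgroup X, K ≠ ⊤ → Cfsg.FamilyControlsTransferIn p (ind X (zkPair p)) K)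
    (hquo : ∀ (N : Subgroup X) [N.Normal], N ≠ ⊥ → Cfsg.FamilyControlsTransferIn p (ind (X ⧸ N) (zkPair p)) ⊤) :
    Cfsg.FamilyControlsTransferIn p (ind X (zkPair p)) ⊤ := by
  classical
  have h𝓦 := isCharPFunctor_zkPair.{u} (p := p) hp
  obtain ⟨S⟩ : Nonempty (Sylow p X) := inferInstance
  refine familyTransfer_of_le S ?_
  set T := transferTarget (ind X (zkPair p)) (S : Subgroup X) ⊤ with hTdef
  by_cases hW : ∃ W ∈ zkPair.{u} p, (Cfsg.inducedFunctor W (S : Subgroup X)).Normal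
  · obtain ⟨W, hW, hn⟩ := hW
    refine le_trans (le_of_eq ?_) (le_iSup₂ (f := fun V (_ : V ∈ ind X (zkPair p)) => (S : Subgroup X) ⊓
      ⁅(⊤ : Subgroup X) ⊓ Subgroup.normalizer ((V (S : Subgroup X) : Subgroup X) : Set X),
        (⊤ : Subgroup X) ⊓ Subgroup.normalizer ((V (S : Subgroup X) : Subgroup X) : Set X)⁆)
      (Cfsg.inducedFunctor W) ⟨W, hW, rfl⟩)
    rw [Subgroup.normalizer_eq_top_iff.2 hn, top_inf_eq]
  push Not at hW
  have hWz : ¬ (Cfsg.inducedFunctor Fusion.SFreeFF.zFunctor (S : Subgroup X)).Normal := hW _ (Or.inl rfl)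
  have hWk : ¬ (Cfsg.inducedFunctor (kFunctor p) (S : Subgroup X)).Normal := hW _ (Or.inr rfl)
  have hSn : ¬ (S : Subgroup X).Normal := fun hn => hWk <| Subgroup.normalizer_eq_top_iff.1 <| top_le_iff.1 <|
    (Subgroup.normalizer_eq_top_iff.2 hn).ge.trans
      (normalizer_le_normalizer_functor (isConjugacyFunctor_induced (isCharPFunctor_kFunctor hp)) S.2)
  haveI hQn : (Cfsg.pCore p X).Normal := LocalEven.SylowIn.pCore_normal X p
  set Q := Cfsg.pCore p X with hQ
  have hQS : Q ≤ (S : Subgroup X) := Solvable.Cores.pCore_le_sylow S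
  have hSQ : ¬ (S : Subgroup X) ≤ Q := fun h => hSn (le_antisymm hQS h ▸ hQn)
  have hQ0 : Q ≠ ⊥ := fun h0 => hSQ fun x hx => hcon (by rw [h0]; intro y hy; rw [Subgroup.mem_bot.1 hy]; simp)
  have hTS : T ≤ (S : Subgroup X) := (transferTarget_le _ _ _).trans inf_le_left
  have hloc : ∀ H : Subgroup X, (S : Subgroup X) ≤ H → H ≠ ⊤ → (S : Subgroup X) ⊓ ⁅H, H⁆ ≤ T :=
    fun H hSH hH => inf_commutator_le_target S h𝓦 hSH (hsub H hH)
  refine (inf_commutator_le_sup S h𝓦 hsub Q (Solvable.Cores.isPGroup_pCore p) (hquo Q hQ0)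
    (fun W hW => normalizer_quotient_pCore_ne_top S hSQ (h𝓦 W hW))).trans (sup_le le_rfl ?_)
  have hSS : ⁅(S : Subgroup X), (S : Subgroup X)⁆ ≤ T := by
    refine le_trans (le_inf (Subgroup.commutator_le_self _) le_rfl) (hloc _ le_rfl fun e => hSn (e ▸ inferInstance))
  rw [← commutator_def]
  refine inf_commutator_le_of_bound S hQS hSS ?_
  by_contra hC
  set C := commBound Q T with hCdef
  have hHC : ∀ H : Subgroup X, (S : Subgroup X) ≤ H → H ≠ ⊤ → H ≤ C := fun H hSH hH g hg =>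
    mem_commBound.2 fun q hq => hloc H hSH hH ⟨hQS (mul_mem (hQn.conj_mem q hq g) (inv_mem hq)),
      Subgroup.commutator_mem_commutator hg (hSH (hQS hq))⟩
  have hSC : (S : Subgroup X) ≤ C := hHC _ le_rfl fun e => hSn (e ▸ inferInstance)
  have htop : ∀ H : Subgroup X, (S : Subgroup X) ≤ H → ¬ H ≤ C → H = ⊤ := fun H hSH hH =>
    by_contra fun h => hH (hHC H hSH h)
  have hcz : ¬ Cfsg.omegaOneCenter p (S : Subgroup X) ≤ Subgroup.center X := fun h => hWz (by
    rw [Fusion.SFreeFF.inducedFunctor_zFunctor]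
    exact ⟨fun y hy g => by
      rw [Subgroup.mem_center_iff.1 (center_le_of_omega hcon S h hy) g, mul_inv_cancel_right]; exact hy⟩)
  have c : Block.Ctx S C :=
    { hp := hp
      con := hcon
      ne := hC
      top := hHC
      notNormal := hSn
      centOmega := fun h => hcz fun v hv => Subgroup.mem_center_iff.2 fun g =>
        ((h ▸ Subgroup.mem_top g : g ∈ ℭ (Cfsg.omegaOneCenter p (S : Subgroup X))) v hv).symm
      thompson := fun hJ => (normal_or_central hp S hC hSC htop hJ).elim hcz hWk }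
  refine hC (top_le_iff.1 ((minimal_bound S c hWk ?_).ge.trans fun g hg => mem_commBound.2 fun q hq => ?_))
  · refine inf_eq_right.2 fun g hg => mem_commBound.2 fun q hq => ?_
    exact ⟨hQS (mul_mem (hQn.conj_mem q hq g) (inv_mem hq)),
      Subgroup.commutator_mem_commutator hg (hSC (hQS hq))⟩
  · exact hloc C hSC hC (mem_commBound.1 hg q hq)

end CfsgLib.PushingUpSingle
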